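import Mathlib
import Groth.Agent.Lib.FlatDepth.CplMap
import Groth.Agent.Lib.FlatDepth.RegNormal

/-! Completions and base change to the completion of the base. -/

set_option autoImplicit false
set_option linter.style.haveILetI false
universe u

open IsLocalRing TensorProduct

namespace Groth.Agent.NbhdH7

open CplLocH7 (Cpl)

variable {L M : Type u} [CommRing L] [IsLocalRing L] [IsNoetherianRing L] [CommRing M] [IsLocalRing M]
  [IsNoetherianRing M]

/-- Maps out of a completion are determined by the ring. -/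
theorem cpl_ext (f g : Cpl L →+* Cpl M) (h : f.comp (algebraMap L (Cpl L)) = g.comp (algebraMap L (Cpl L)))
    (hm : ∀ a ∈ maximalIdeal L, f (algebraMap L (Cpl L) a) ∈ maximalIdeal (Cpl M)) : f = g := by
  haveI : IsNoetherianRing (Cpl M) := Compl.isNoetherianRing_adicCompletion _ (IsNoetherian.noetherian _)
  have hpow : ∀ φ : Cpl L →+* Cpl M, (∀ a ∈ maximalIdeal L, φ (algebraMap L (Cpl L) a) ∈ maximalIdeal (Cpl M)) →
      ∀ n, ∀ x ∈ maximalIdeal (Cpl L) ^ n, φ x ∈ maximalIdeal (Cpl M) ^ n := fun φ hφ n x hx => by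
    rw [CplLocH7.maximalIdeal_cpl] at hx
    have := Ideal.mem_map_of_mem φ hx
    rw [Ideal.map_pow, Ideal.map_map] at this
    exact Ideal.pow_right_mono (Ideal.map_le_iff_le_comap.2 hφ) n this
  have hg : ∀ a ∈ maximalIdeal L, g (algebraMap L (Cpl L) a) ∈ maximalIdeal (Cpl M) := fun a ha =>
    (RingHom.congr_fun h a : f (algebraMap L (Cpl L) a) = g (algebraMap L (Cpl L) a)) ▸ hm a ha
  refine RingHom.ext fun x => sub_eq_zero.1 ?_
  have hmem : ∀ n, f x - g x ∈ maximalIdeal (Cpl M) ^ n := fun n => by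
    obtain ⟨a, ha⟩ := CplLocH7.exists_sub_mem_pow n x
    have := sub_mem (hpow f hm n _ ha) (hpow g hg n _ ha)
    rwa [map_sub, map_sub, show g (algebraMap L (Cpl L) a) = f (algebraMap L (Cpl L) a) from
      (RingHom.congr_fun h a).symm, sub_sub_sub_cancel_right] at this
  have := (Submodule.mem_iInf _).2 hmem
  rwa [Ideal.iInf_pow_eq_bot_of_isLocalRing _ (maximalIdeal.isMaximal _).ne_top, Ideal.mem_bot] at this

/-- A flat local map which is trivial on residue fields and maximal ideals induces an isomorphism of completions. -/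
theorem exists_cplEquiv (s : L →+* M) [IsLocalHom s] (hflat : s.Flat) (hm : (maximalIdeal L).map s = maximalIdeal M)
    (hres : ∀ z : M, ∃ c, z - s c ∈ maximalIdeal M) :
    ∃ e : Cpl L ≃+* Cpl M, ∀ a, e (algebraMap L (Cpl L) a) = algebraMap M (Cpl M) (s a) := by
  letI : Algebra L M := s.toAlgebra
  haveI : IsLocalHom (algebraMap L M) := ‹IsLocalHom s›
  obtain ⟨_, htow, hff⟩ := FlatDepth.exists_cpl_tower L M
  haveI := htow
  haveI := hff (RingHom.flat_algebraMap_iff.1 hflat)
  refine ⟨RingEquiv.ofBijective (algebraMap (Cpl L) (Cpl M)) ⟨FaithfulSMul.algebraMap_injective _ _, fun y => ?_⟩,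
    fun a => ?_⟩
  · obtain ⟨c, hc⟩ := CplLocH7.surjective_linearCombination (A := L) (B := M) hm (fun _ : Unit => (1 : M))
      (fun b => by
        obtain ⟨c, hc⟩ := hres b
        refine ⟨fun _ => c, ?_⟩
        simp [Algebra.smul_def]
        exact hc) y
    exact ⟨c (), by rw [← hc]; simp [Fintype.linearCombination_apply, Algebra.smul_def]⟩
  · show algebraMap (Cpl L) (Cpl M) (algebraMap L (Cpl L) a) = _
    rw [← IsScalarTower.algebraMap_apply, IsScalarTower.algebraMap_apply L M (Cpl M)]
    rfl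

/-- Completing the base does not change completed local rings. -/
theorem exists_cplEquiv_baseChange {A C : Type u} [CommRing A] [CommRing C] [Algebra A C] [Algebra A L]
    (MA : Submonoid A) [IsLocalization MA L] [Algebra C M] (MC : Submonoid C) [IsLocalization MC M]
    (sp : L →+* M) [IsLocalHom sp] (hsp : ∀ a, sp (algebraMap A L a) = algebraMap C M (algebraMap A C a))
    (G : Cpl L →+* Cpl M) (hG : ∀ a, G (algebraMap L (Cpl L) a) = algebraMap M (Cpl M) (sp a))
    (θ : Cpl L ⊗[A] C →+* Cpl M) (hθ : ∀ k c, θ (k ⊗ₜ c) = G k * algebraMap M (Cpl M) (algebraMap C M c))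
    {O : Type u} [CommRing O] [IsLocalRing O] [IsNoetherianRing O] [Algebra (Cpl L ⊗[A] C) O]
    [((maximalIdeal (Cpl M)).comap θ).IsPrime] [IsLocalization.AtPrime O ((maximalIdeal (Cpl M)).comap θ)] :
    ∃ e : Cpl M ≃+* Cpl O,
      (∀ c, e (algebraMap M (Cpl M) (algebraMap C M c)) =
        algebraMap O (Cpl O) (algebraMap (Cpl L ⊗[A] C) O (1 ⊗ₜ c))) ∧
      ∀ k, e (G k) = algebraMap O (Cpl O) (algebraMap (Cpl L ⊗[A] C) O (k ⊗ₜ 1)) := by
  let p := (maximalIdeal (Cpl M)).comap θ
  let toO := algebraMap (Cpl L ⊗[A] C) O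
  have hθ1 : ∀ c, θ (1 ⊗ₜ c) = algebraMap M (Cpl M) (algebraMap C M c) := fun c => by rw [hθ, map_one, one_mul]
  have hGm : ∀ a ∈ maximalIdeal L, G (algebraMap L (Cpl L) a) ∈ maximalIdeal (Cpl M) := fun a ha => by
    rw [hG]; exact map_nonunit (algebraMap M (Cpl M)) _ (map_nonunit sp _ ha)
  have hpO : ∀ z, z ∈ p ↔ toO z ∈ maximalIdeal O := fun z => by
    rw [← Ideal.mem_comap (f := toO), show Ideal.comap toO (maximalIdeal O) = p from
      IsLocalization.AtPrime.comap_maximalIdeal O p]
  have hlCpl : IsLocalHom (algebraMap M (Cpl M)) := inferInstance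
  have hunit : ∀ m : MC, IsUnit (toO.comp (Algebra.TensorProduct.includeRight : C →ₐ[A] Cpl L ⊗[A] C).toRingHom m) := by
    intro m
    by_contra h
    have h1 : (1 : Cpl L) ⊗ₜ[A] (m : C) ∈ p := (hpO _).2 h
    have h2 : θ (1 ⊗ₜ (m : C)) ∈ maximalIdeal (Cpl M) := h1
    rw [hθ1] at h2
    exact h2 ((IsLocalization.map_units M m).map _)
  let ι : M →+* O := IsLocalization.lift hunit
  have hι : ∀ c, ι (algebraMap C M c) = toO (1 ⊗ₜ c) := fun c => IsLocalization.lift_eq hunit c
  have hιl : IsLocalHom ι := by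
    refine ⟨fun z hz => ?_⟩
    obtain ⟨⟨c, m⟩, h⟩ := IsLocalization.surj MC z
    dsimp only at h
    have hu : IsUnit (ι (algebraMap C M c)) := by
      rw [← h, map_mul]; exact hz.mul ((IsLocalization.map_units M m).map ι)
    have h1 : IsUnit (algebraMap C M c) := by
      by_contra h1
      rw [hι] at hu
      refine (hpO _).1 ?_ hu
      show θ _ ∈ maximalIdeal (Cpl M)
      rw [hθ1]
      exact map_nonunit (algebraMap M (Cpl M)) _ h1
    rw [← h] at h1
    exact isUnit_of_mul_isUnit_left h1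
  haveI := hιl
  have hιsp : ι.comp sp = (toO.comp (Algebra.TensorProduct.includeLeft : Cpl L →ₐ[A] Cpl L ⊗[A] C).toRingHom).comp
      (algebraMap L (Cpl L)) := IsLocalization.ringHom_ext MA (RingHom.ext fun a => by
    show ι (sp (algebraMap A L a)) = toO (algebraMap L (Cpl L) (algebraMap A L a) ⊗ₜ 1)
    rw [hsp, hι, ← IsScalarTower.algebraMap_apply A L (Cpl L)]
    congr 1
    rw [Algebra.algebraMap_eq_smul_one, Algebra.algebraMap_eq_smul_one, TensorProduct.smul_tmul])
  have hkey : ∀ z : O, ∃ c, z - ι c ∈ (maximalIdeal M).map ι := by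
    have hP : ∀ z : Cpl L ⊗[A] C, ∃ c, toO z - ι c ∈ (maximalIdeal M).map ι := by
      intro z
      induction z using TensorProduct.induction_on with
      | zero => exact ⟨0, by simp⟩
      | add a b ha hb =>
        obtain ⟨ca, ha⟩ := ha
        obtain ⟨cb, hb⟩ := hb
        exact ⟨ca + cb, by rw [map_add, map_add, add_sub_add_comm]; exact add_mem ha hb⟩
      | tmul k c =>
        obtain ⟨l, hl⟩ := CplLocH7.exists_sub_mem_pow 1 k
        rw [pow_one, CplLocH7.maximalIdeal_cpl] at hl
        refine ⟨sp l * algebraMap C M c, ?_⟩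
        have e : toO (k ⊗ₜ c) - ι (sp l * algebraMap C M c) =
            toO ((k - algebraMap L (Cpl L) l) ⊗ₜ 1) * toO (1 ⊗ₜ c) := by
          rw [map_mul, hι, show ι (sp l) = toO (algebraMap L (Cpl L) l ⊗ₜ 1) from RingHom.congr_fun hιsp l,
            ← map_mul, ← map_mul, ← map_sub, Algebra.TensorProduct.tmul_mul_tmul, Algebra.TensorProduct.tmul_mul_tmul,
            mul_one, one_mul, mul_one, TensorProduct.sub_tmul]
        rw [e]
        refine Ideal.mul_mem_right _ _ ?_
        have h1 := Ideal.mem_map_of_mem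
          (toO.comp (Algebra.TensorProduct.includeLeft : Cpl L →ₐ[A] Cpl L ⊗[A] C).toRingHom) hl
        rw [Ideal.map_map, ← hιsp, ← Ideal.map_map] at h1
        exact Ideal.map_mono (IsLocalRing.map_maximalIdeal_le sp) h1
    intro z
    obtain ⟨⟨a, t⟩, hz⟩ := IsLocalization.surj p.primeCompl z
    obtain ⟨ca, hca⟩ := hP a
    obtain ⟨ct, hct⟩ := hP t
    have hle := IsLocalRing.map_maximalIdeal_le ι
    have htu : IsUnit (toO t) := IsLocalization.map_units O t
    have hctu : IsUnit ct := by
      by_contra h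
      have : ι ct ∈ maximalIdeal O := map_nonunit ι _ h
      exact ((by simpa using add_mem (hle hct) this) : toO t ∈ maximalIdeal O) htu
    obtain ⟨w, hw⟩ := hctu.exists_left_inv
    refine ⟨ca * w, ?_⟩
    have h1 : ι w * ι ct = 1 := by rw [← map_mul, hw, map_one]
    have : z - ι (ca * w) = ι w * (toO a - ι ca) - z * ι w * (toO t - ι ct) := by
      have hz' : z * toO t = toO a := hz
      rw [map_mul]
      linear_combination (ι w) * hz' - z * h1
    rw [this]
    exact sub_mem (Ideal.mul_mem_left _ _ hca) (Ideal.mul_mem_left _ _ hct)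
  have hle := IsLocalRing.map_maximalIdeal_le ι
  have hm : (maximalIdeal M).map ι = maximalIdeal O := le_antisymm hle fun z hz => by
    obtain ⟨c, hc⟩ := hkey z
    have h1 : ι c ∈ maximalIdeal O := by simpa using sub_mem hz (hle hc)
    have h2 : c ∈ maximalIdeal M := fun hu => h1 (hu.map ι)
    simpa using add_mem hc (Ideal.mem_map_of_mem ι h2)
  have hflat : ι.Flat := by
    haveI : Module.Flat L (Cpl L) := (CplLocH7.faithfullyFlat_cpl (A := L)).toFlat
    haveI : Module.Flat A L := IsLocalization.flat L MA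
    haveI : Module.Flat A (Cpl L) := Module.Flat.trans A L (Cpl L)
    letI : Algebra C (Cpl L ⊗[A] C) := Algebra.TensorProduct.rightAlgebra
    haveI : Module.Flat C (Cpl L ⊗[A] C) := by
      let e : C ⊗[A] Cpl L ≃ₐ[C] Cpl L ⊗[A] C :=
        .ofRingEquiv (f := (Algebra.TensorProduct.comm A C (Cpl L)).toRingEquiv) <| by
          intro c
          simp [RingHom.algebraMap_toAlgebra]
      exact Module.Flat.of_linearEquiv e.symm.toLinearEquiv
    letI : Algebra M O := ι.toAlgebra
    letI : Algebra C O := (toO.comp (algebraMap C (Cpl L ⊗[A] C))).toAlgebra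
    haveI : IsScalarTower C (Cpl L ⊗[A] C) O := IsScalarTower.of_algebraMap_eq fun _ => rfl
    haveI : IsScalarTower C M O := IsScalarTower.of_algebraMap_eq fun c => (hι c).symm
    haveI : Module.Flat (Cpl L ⊗[A] C) O := IsLocalization.flat O p.primeCompl
    haveI : Module.Flat C O := Module.Flat.trans C (Cpl L ⊗[A] C) O
    rw [← RingHom.algebraMap_toAlgebra ι, RingHom.flat_algebraMap_iff]
    exact (Module.flat_iff_of_isLocalization M MC O).2 inferInstance
  have hres : ∀ z : O, ∃ c, z - ι c ∈ maximalIdeal O := fun z => (hkey z).imp fun c hc => hle hc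
  obtain ⟨e, he⟩ := exists_cplEquiv ι hflat hm hres
  refine ⟨e, fun c => by rw [he, hι], fun k => ?_⟩
  have h1 : e.toRingHom.comp G =
      (algebraMap O (Cpl O)).comp (toO.comp (Algebra.TensorProduct.includeLeft : Cpl L →ₐ[A] Cpl L ⊗[A] C).toRingHom) := by
    refine cpl_ext _ _ (RingHom.ext fun l => ?_) fun a ha => ?_
    · show e (G (algebraMap L (Cpl L) l)) = algebraMap O (Cpl O) (toO (algebraMap L (Cpl L) l ⊗ₜ 1))
      rw [hG, he, show ι (sp l) = toO (algebraMap L (Cpl L) l ⊗ₜ 1) from RingHom.congr_fun hιsp l]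
    · show e (G (algebraMap L (Cpl L) a)) ∈ maximalIdeal (Cpl O)
      rw [hG, he]
      exact map_nonunit (algebraMap O (Cpl O)) _ (map_nonunit ι _ (map_nonunit sp _ ha))
  exact RingHom.congr_fun h1 k

end Groth.Agent.NbhdH7
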