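import Mathlib
import Groth.Agent.S19569
import Groth.Agent.S9421

/-! Descending a common étale neighbourhood to a finitely generated stage. -/

set_option autoImplicit false
set_option linter.style.haveILetI false
universe u

open TensorProduct

namespace Groth.Agent.NbhdH7

section T1

variable (A B K C D : Type u) [CommRing A] [CommRing B] [CommRing K] [CommRing C] [CommRing D] [Algebra A B]
  [Algebra A K] [Algebra A C] [Algebra B K] [IsScalarTower A B K] [Algebra B D] [Algebra (B ⊗[A] C) D]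
  [IsScalarTower B (B ⊗[A] C) D]

/-- The comparison map. -/
noncomputable def leg : K ⊗[A] C →ₐ[A] K ⊗[B] D :=
  Algebra.TensorProduct.lift ((Algebra.TensorProduct.includeLeft : K →ₐ[B] K ⊗[B] D).restrictScalars A)
    (letI : Algebra A D := Algebra.compHom D (algebraMap A B)
     haveI : IsScalarTower A B D := IsScalarTower.of_algebraMap_eq fun _ => rfl
     haveI : IsScalarTower A (B ⊗[A] C) D := IsScalarTower.of_algebraMap_eq fun a => by
       rw [IsScalarTower.algebraMap_apply A B (B ⊗[A] C), ← IsScalarTower.algebraMap_apply B (B ⊗[A] C) D]; rfl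
     ((Algebra.TensorProduct.includeRight : D →ₐ[B] K ⊗[B] D).restrictScalars A).comp
      ((IsScalarTower.toAlgHom A (B ⊗[A] C) D).comp Algebra.TensorProduct.includeRight))
    fun _ _ => Commute.all _ _

theorem leg_tmul (k : K) (c : C) :
    leg A B K C D (k ⊗ₜ c) = k ⊗ₜ[B] algebraMap (B ⊗[A] C) D ((1 : B) ⊗ₜ c) := by
  rw [leg, Algebra.TensorProduct.lift_tmul]
  show (k ⊗ₜ[B] (1 : D)) * ((1 : K) ⊗ₜ[B] algebraMap (B ⊗[A] C) D ((1 : B) ⊗ₜ c)) = _
  rw [Algebra.TensorProduct.tmul_mul_tmul, mul_one, one_mul]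

theorem leg_map (z : B ⊗[A] C) :
    leg A B K C D (Algebra.TensorProduct.map (IsScalarTower.toAlgHom A B K) (AlgHom.id A C) z) =
      (1 : K) ⊗ₜ[B] algebraMap (B ⊗[A] C) D z := by
  induction z using TensorProduct.induction_on with
  | zero => simp
  | tmul b c =>
    rw [Algebra.TensorProduct.map_tmul, leg_tmul]
    show algebraMap B K b ⊗ₜ[B] algebraMap (B ⊗[A] C) D ((1 : B) ⊗ₜ c) = _
    rw [Algebra.algebraMap_eq_smul_one, TensorProduct.smul_tmul, Algebra.smul_def,
      IsScalarTower.algebraMap_apply B (B ⊗[A] C) D, ← map_mul]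
    congr 2
    simp [Algebra.TensorProduct.tmul_mul_tmul]
  | add x y hx hy => rw [map_add, map_add, hx, hy, map_add, TensorProduct.tmul_add]

/-- The base change of `D` over `K ⊗ C`. -/
theorem exists_legEquiv [Algebra (B ⊗[A] C) (K ⊗[A] C)]
    (hg : ∀ z, algebraMap (B ⊗[A] C) (K ⊗[A] C) z =
      Algebra.TensorProduct.map (IsScalarTower.toAlgHom A B K) (AlgHom.id A C) z) :
    ∃ Φ : (K ⊗[A] C) ⊗[B ⊗[A] C] D ≃+* K ⊗[B] D,
      (∀ p, Φ (p ⊗ₜ 1) = leg A B K C D p) ∧ ∀ d, Φ (1 ⊗ₜ d) = (1 : K) ⊗ₜ[B] d := by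
  let G := B ⊗[A] C
  let P := K ⊗[A] C
  letI : Algebra G (K ⊗[B] D) := ((Algebra.TensorProduct.includeRight : D →ₐ[B] K ⊗[B] D).toRingHom.comp
    (algebraMap G D)).toAlgebra
  let f : P →ₐ[G] K ⊗[B] D := { (leg A B K C D).toRingHom with
    commutes' := fun z => by
      show leg A B K C D (algebraMap G P z) = _
      rw [hg, leg_map]; rfl }
  let r : D →ₐ[G] K ⊗[B] D := { (Algebra.TensorProduct.includeRight : D →ₐ[B] K ⊗[B] D).toRingHom with
    commutes' := fun _ => rfl }
  let F : P ⊗[G] D →ₐ[G] K ⊗[B] D := Algebra.TensorProduct.lift f r fun _ _ => Commute.all _ _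
  letI : Algebra B (P ⊗[G] D) := (((Algebra.TensorProduct.includeLeft : P →ₐ[G] P ⊗[G] D).toRingHom.comp
    (Algebra.TensorProduct.includeLeft : K →ₐ[A] K ⊗[A] C).toRingHom).comp (algebraMap B K)).toAlgebra
  let l : K →ₐ[B] P ⊗[G] D := { (Algebra.TensorProduct.includeLeft : P →ₐ[G] P ⊗[G] D).toRingHom.comp
      (Algebra.TensorProduct.includeLeft : K →ₐ[A] K ⊗[A] C).toRingHom with commutes' := fun _ => rfl }
  let r' : D →ₐ[B] P ⊗[G] D := { (Algebra.TensorProduct.includeRight : D →ₐ[G] P ⊗[G] D).toRingHom with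
    commutes' := fun b => by
      show (1 : P) ⊗ₜ[G] algebraMap B D b = ((algebraMap B K b) ⊗ₜ[A] (1 : C)) ⊗ₜ[G] (1 : D)
      rw [IsScalarTower.algebraMap_apply B G D, Algebra.algebraMap_eq_smul_one (A := D), TensorProduct.tmul_smul,
        TensorProduct.smul_tmul', ← Algebra.algebraMap_eq_smul_one, hg]
      congr 1 }
  let F' : K ⊗[B] D →ₐ[B] P ⊗[G] D := Algebra.TensorProduct.lift l r' fun _ _ => Commute.all _ _
  have h1 : ∀ x, F (F' x) = x := fun x => by
    induction x using TensorProduct.induction_on with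
    | zero => simp
    | tmul k d =>
      show F (F' (k ⊗ₜ d)) = _
      rw [Algebra.TensorProduct.lift_tmul]
      show F (((k ⊗ₜ[A] (1 : C)) ⊗ₜ[G] (1 : D)) * ((1 : P) ⊗ₜ[G] d)) = _
      rw [Algebra.TensorProduct.tmul_mul_tmul, mul_one, one_mul, Algebra.TensorProduct.lift_tmul]
      show leg A B K C D (k ⊗ₜ 1) * ((1 : K) ⊗ₜ[B] d) = _
      rw [leg_tmul, ← Algebra.TensorProduct.one_def, map_one, Algebra.TensorProduct.tmul_mul_tmul, mul_one, one_mul]
    | add a b ha hb => simp only [map_add, ha, hb]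
  have h2 : ∀ x, F' (F x) = x := by
    have hP : ∀ p : P, F' (leg A B K C D p) = p ⊗ₜ[G] (1 : D) := fun p => by
      induction p using TensorProduct.induction_on with
      | zero => simp
      | tmul k c =>
        rw [leg_tmul, Algebra.TensorProduct.lift_tmul]
        show ((k ⊗ₜ[A] (1 : C)) ⊗ₜ[G] (1 : D)) * ((1 : P) ⊗ₜ[G] algebraMap G D ((1 : B) ⊗ₜ c)) = _
        rw [Algebra.algebraMap_eq_smul_one (A := D), TensorProduct.tmul_smul, TensorProduct.smul_tmul',
          ← Algebra.algebraMap_eq_smul_one, hg, Algebra.TensorProduct.map_tmul, map_one,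
          Algebra.TensorProduct.tmul_mul_tmul, mul_one, Algebra.TensorProduct.tmul_mul_tmul, mul_one]
        simp
      | add a b ha hb => simp only [map_add, ha, hb, TensorProduct.add_tmul]
    intro x
    induction x using TensorProduct.induction_on with
    | zero => simp
    | tmul p d =>
      rw [Algebra.TensorProduct.lift_tmul]
      show F' (leg A B K C D p * ((1 : K) ⊗ₜ[B] d)) = _
      rw [map_mul, hP, Algebra.TensorProduct.lift_tmul, map_one, one_mul]
      show (p ⊗ₜ[G] (1 : D)) * ((1 : P) ⊗ₜ[G] d) = _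
      rw [Algebra.TensorProduct.tmul_mul_tmul, mul_one, one_mul]
    | add a b ha hb => simp only [map_add, ha, hb]
  refine ⟨RingEquiv.ofRingHom F.toRingHom F'.toRingHom (RingHom.ext h1) (RingHom.ext h2), fun p => ?_, fun d => ?_⟩
  · show F (p ⊗ₜ 1) = _
    rw [Algebra.TensorProduct.lift_tmul, map_one, mul_one]; rfl
  · show F (1 ⊗ₜ d) = _
    rw [Algebra.TensorProduct.lift_tmul, map_one, one_mul]; rfl

/-- The leg is étale. -/
theorem etale_leg [Algebra.Etale (B ⊗[A] C) D] : (leg A B K C D).toRingHom.Etale := by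
  letI : Algebra (B ⊗[A] C) (K ⊗[A] C) :=
    (Algebra.TensorProduct.map (IsScalarTower.toAlgHom A B K) (AlgHom.id A C)).toRingHom.toAlgebra
  obtain ⟨Φ, hΦ, -⟩ := exists_legEquiv A B K C D fun _ => rfl
  have h1 : (algebraMap (K ⊗[A] C) ((K ⊗[A] C) ⊗[B ⊗[A] C] D)).Etale := RingHom.etale_algebraMap.2 inferInstance
  have h2 := RingHom.Etale.stableUnderComposition _ _ h1 (RingHom.Etale.of_bijective (f := Φ.toRingHom) Φ.bijective)
  convert h2 using 1
  exact RingHom.ext fun p => (hΦ p).symm

end T1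

section T2

variable (A B K Y D : Type u) [CommRing A] [CommRing B] [CommRing K] [CommRing Y] [CommRing D] [Algebra A B]
  [Algebra A K] [Algebra A Y] [Algebra B K] [IsScalarTower A B K] [Algebra B D] [Algebra (B ⊗[A] Y) D]
  [IsScalarTower B (B ⊗[A] Y) D]

/-- Étaleness after tensoring on the other side. -/
theorem etale_tensor_iff :
    Algebra.Etale ((B ⊗[A] Y) ⊗[B] K) (((B ⊗[A] Y) ⊗[B] K) ⊗[B ⊗[A] Y] D) ↔ (leg A B K Y D).toRingHom.Etale := by
  let G := B ⊗[A] Y
  let GK := G ⊗[B] K
  let P := K ⊗[A] Y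
  letI : Algebra G P := (Algebra.TensorProduct.map (IsScalarTower.toAlgHom A B K) (AlgHom.id A Y)).toRingHom.toAlgebra
  obtain ⟨Φ, hΦ, hΦ'⟩ := exists_legEquiv A B K Y D fun _ => rfl
  haveI : IsScalarTower B G P := IsScalarTower.of_algebraMap_eq fun b => by
    show algebraMap B P b = Algebra.TensorProduct.map (IsScalarTower.toAlgHom A B K) (AlgHom.id A Y) (b ⊗ₜ 1)
    rw [Algebra.TensorProduct.map_tmul, IsScalarTower.algebraMap_apply B K P, map_one]; rfl
  let E0 : GK →ₐ[G] P := Algebra.TensorProduct.lift (Algebra.ofId G P)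
    (Algebra.TensorProduct.includeLeft : K →ₐ[B] P) fun _ _ => Commute.all _ _
  let E1 : P →ₐ[A] GK := Algebra.TensorProduct.lift
    ((Algebra.TensorProduct.includeRight : K →ₐ[B] GK).restrictScalars A)
    (((Algebra.TensorProduct.includeLeft : G →ₐ[B] GK).restrictScalars A).comp Algebra.TensorProduct.includeRight)
    fun _ _ => Commute.all _ _
  have hE1 : ∀ k y, E1 (k ⊗ₜ[A] y) = ((1 : B) ⊗ₜ[A] y) ⊗ₜ[B] k := fun k y => by
    rw [Algebra.TensorProduct.lift_tmul]
    show ((1 : G) ⊗ₜ[B] k) * (((1 : B) ⊗ₜ[A] y) ⊗ₜ[B] (1 : K)) = _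
    rw [Algebra.TensorProduct.tmul_mul_tmul, one_mul, mul_one]
  have h1 : E0.toRingHom.comp E1.toRingHom = RingHom.id P := by
    refine RingHom.ext fun x => ?_
    induction x using TensorProduct.induction_on with
    | zero => simp
    | tmul k y =>
      show E0 (E1 (k ⊗ₜ y)) = k ⊗ₜ y
      rw [hE1, Algebra.TensorProduct.lift_tmul]
      show Algebra.TensorProduct.map (IsScalarTower.toAlgHom A B K) (AlgHom.id A Y) ((1 : B) ⊗ₜ y) * (k ⊗ₜ[A] (1 : Y)) = _
      rw [Algebra.TensorProduct.map_tmul, Algebra.TensorProduct.tmul_mul_tmul, map_one, one_mul, mul_one]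
      rfl
    | add a b ha hb => simp only [map_add, ha, hb]
  have hg : ∀ g : G, E1 (algebraMap G P g) = g ⊗ₜ[B] (1 : K) := fun g => by
    induction g using TensorProduct.induction_on with
    | zero => simp
    | tmul b y =>
      show E1 (algebraMap B K b ⊗ₜ[A] y) = _
      rw [hE1, Algebra.algebraMap_eq_smul_one, TensorProduct.tmul_smul, TensorProduct.smul_tmul',
        TensorProduct.smul_tmul', smul_eq_mul, mul_one]
    | add a b ha hb => simp only [map_add, ha, hb, TensorProduct.add_tmul]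
  have h2 : E1.toRingHom.comp E0.toRingHom = RingHom.id GK := by
    refine RingHom.ext fun x => ?_
    induction x using TensorProduct.induction_on with
    | zero => simp
    | tmul g k =>
      show E1 (E0 (g ⊗ₜ k)) = g ⊗ₜ k
      rw [Algebra.TensorProduct.lift_tmul, map_mul]
      show E1 (algebraMap G P g) * E1 (k ⊗ₜ 1) = _
      rw [hg, hE1, Algebra.TensorProduct.tmul_mul_tmul, one_mul, ← Algebra.TensorProduct.one_def, mul_one]
    | add a b ha hb => simp only [map_add, ha, hb]
  let E : GK ≃ₐ[G] P := AlgEquiv.ofRingEquiv (f := RingEquiv.ofRingHom E0.toRingHom E1.toRingHom h1 h2) E0.commutes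
  let M := Algebra.TensorProduct.map E.toAlgHom (AlgHom.id G D)
  have hM : Function.Bijective M := (Algebra.TensorProduct.congr E AlgEquiv.refl).bijective
  have key : (Φ.toRingHom.comp M.toRingHom).comp (algebraMap GK (GK ⊗[G] D)) = (leg A B K Y D).toRingHom.comp E.toRingHom :=
    RingHom.ext fun x => by
      show Φ (M (x ⊗ₜ 1)) = leg A B K Y D (E x)
      rw [Algebra.TensorProduct.map_tmul, map_one]
      exact hΦ _
  have hb : Function.Bijective (Φ.toRingHom.comp M.toRingHom) := Φ.bijective.comp hM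
  constructor
  · intro h
    have := RingHom.Etale.stableUnderComposition _ _ (RingHom.etale_algebraMap.2 h) (RingHom.Etale.of_bijective hb)
    rw [key] at this
    have h3 := RingHom.Etale.stableUnderComposition _ _
      (RingHom.Etale.of_bijective (f := E.symm.toRingEquiv.toRingHom) E.symm.bijective) this
    convert h3 using 1
    exact RingHom.ext fun p => (congrArg (leg A B K Y D) (E.apply_symm_apply p)).symm
  · intro h
    rw [← RingHom.etale_algebraMap]
    let Mc := Algebra.TensorProduct.congr E (AlgEquiv.refl : D ≃ₐ[G] D)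
    let N : K ⊗[B] D →+* GK ⊗[G] D := (Mc.symm : P ⊗[G] D →+* GK ⊗[G] D).comp (Φ.symm : K ⊗[B] D →+* P ⊗[G] D)
    have hN : Function.Bijective N := Mc.symm.bijective.comp Φ.symm.bijective
    have hEb : Function.Bijective E.toRingHom := E.bijective
    have h4 : RingHom.Etale (R := K ⊗[B] D) (S := GK ⊗[G] D) N :=
      RingHom.Etale.of_bijective (R := K ⊗[B] D) (S := GK ⊗[G] D) (f := N) hN
    have h5 := RingHom.Etale.stableUnderComposition _ _ (RingHom.Etale.of_bijective hEb) h
    have := RingHom.Etale.stableUnderComposition _ _ h5 h4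
    convert this using 1
    refine RingHom.ext fun x => ?_
    show algebraMap GK (GK ⊗[G] D) x = Mc.symm (Φ.symm (leg A B K Y D (E x)))
    rw [show leg A B K Y D (E x) = Φ (M (algebraMap GK (GK ⊗[G] D) x)) from (RingHom.congr_fun key x).symm,
      Φ.symm_apply_apply]
    exact (Mc.symm_apply_apply _).symm

end T2

/-- Maps out of finitely presented algebras factor through a stage. -/
theorem exists_stage_lift {R : Type u} [CommRing R] [IsNoetherianRing R] {ι : Type u} [Preorder ι]
    [IsDirected ι (· ≤ ·)] [Nonempty ι] {G : ι → Type u} [∀ i, CommRing (G i)] [∀ i, Algebra R (G i)]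
    (f : ∀ i j, i ≤ j → (G i →ₐ[R] G j)) {A : Type u} [CommRing A] [Algebra R A] (g : ∀ i, G i →ₐ[R] A)
    (hg : ∀ i j (h : i ≤ j) x, g j (f i j h x) = g i x) (hsurj : ∀ a : A, ∃ i, ∃ x : G i, g i x = a)
    (hker : ∀ i (x : G i), g i x = 0 → ∃ j, ∃ h : i ≤ j, ∀ l (hl : j ≤ l), f i l (le_trans h hl) x = 0)
    {Y : Type u} [CommRing Y] [Algebra R Y] [Algebra.FiniteType R Y] (h : Y →ₐ[R] A) :
    ∃ i, ∃ h' : Y →ₐ[R] G i, (g i).comp h' = h := by
  classical
  obtain ⟨n, π, hπ⟩ := Algebra.FiniteType.iff_quotient_mvPolynomial''.1 ‹Algebra.FiniteType R Y›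
  choose i x hx using fun v => hsurj (h (π (MvPolynomial.X v)))
  obtain ⟨i0, hi0⟩ := Finite.exists_le i
  let F : MvPolynomial (Fin n) R →ₐ[R] G i0 := MvPolynomial.aeval fun v => f (i v) i0 (hi0 v) (x v)
  have hF : (g i0).comp F = h.comp π := MvPolynomial.algHom_ext fun v => by simp [F, hg, hx]
  obtain ⟨s, hs⟩ := IsNoetherian.noetherian (RingHom.ker π.toRingHom)
  have hzero : ∀ p ∈ s, g i0 (F p) = 0 := fun p hp => by
    have hp' : π p = 0 := (hs ▸ Ideal.subset_span hp : p ∈ RingHom.ker π.toRingHom)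
    rw [show g i0 (F p) = h (π p) from DFunLike.congr_fun hF p, hp', map_zero]
  choose j hj hj0 using fun p : ↥s => hker i0 (F p) (hzero p p.2)
  obtain ⟨j0, hj0'⟩ := Finite.exists_le j
  obtain ⟨l, hl1, hl2⟩ := directed_of (· ≤ ·) i0 j0
  let F' : MvPolynomial (Fin n) R →ₐ[R] G l := (f i0 l hl1).comp F
  have hker' : RingHom.ker π.toRingHom ≤ RingHom.ker F'.toRingHom := by
    rw [← hs]
    exact Ideal.span_le.2 fun p hp => hj0 ⟨p, hp⟩ l ((hj0' ⟨p, hp⟩).trans hl2)
  have hdesc : ∀ p q, π p = π q → F' p = F' q := fun p q hpq =>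
    sub_eq_zero.1 (by rw [← map_sub]; exact hker' (by show π (p - q) = 0; rw [map_sub, hpq, sub_self]))
  let s' := Function.surjInv hπ
  have hs' : ∀ y, π (s' y) = y := Function.surjInv_eq hπ
  refine ⟨l, { toFun := fun y => F' (s' y)
               map_one' := by rw [← map_one F']; exact hdesc _ _ (by rw [hs', map_one])
               map_mul' := fun a b => by rw [← map_mul]; exact hdesc _ _ (by rw [hs', map_mul, hs', hs'])
               map_zero' := by rw [← map_zero F']; exact hdesc _ _ (by rw [hs', map_zero])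
               map_add' := fun a b => by rw [← map_add]; exact hdesc _ _ (by rw [hs', map_add, hs', hs'])
               commutes' := fun r => by rw [← F'.commutes r]; exact hdesc _ _ (by rw [hs', AlgHom.commutes]) },
    AlgHom.ext fun y => ?_⟩
  show g l (f i0 l hl1 (F (s' y))) = h y
  rw [hg, show g i0 (F (s' y)) = h (π (s' y)) from DFunLike.congr_fun hF _, hs']

/-- The colimit system of tensor products with finitely generated subalgebras. -/
theorem exists_tensor_stage {R S N : Type u} [CommRing R] [CommRing S] [Algebra R S] [CommRing N] [Algebra R N] :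
    (∀ z : S ⊗[R] N, ∃ B : Subalgebra R S, B.FG ∧ ∃ t, Algebra.TensorProduct.map B.val (AlgHom.id R N) t = z) ∧
    ∀ (B : Subalgebra R S), B.FG → ∀ t, Algebra.TensorProduct.map B.val (AlgHom.id R N) t = 0 →
      ∃ (B' : Subalgebra R S) (h : B ≤ B'), B'.FG ∧
        ∀ (B'' : Subalgebra R S) (h' : B' ≤ B''),
          Algebra.TensorProduct.map (Subalgebra.inclusion (h.trans h')) (AlgHom.id R N) t = 0 := by
  have e : ∀ {U V : Type u} [CommRing U] [CommRing V] [Algebra R U] [Algebra R V] (φ : U →ₐ[R] V) (t : U ⊗[R] N),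
      Algebra.TensorProduct.map φ (AlgHom.id R N) t = φ.toLinearMap.rTensor N t := fun φ t => by
    induction t using TensorProduct.induction_on with
    | zero => simp
    | tmul x y => simp
    | add a b ha hb => simp only [map_add, ha, hb]
  refine ⟨fun z => ?_, fun B hB t ht => ?_⟩
  · obtain ⟨B, hB, t, ht⟩ := TensorProduct.Algebra.exists_of_fg z
    exact ⟨B, hB, t, (e _ t).trans ht⟩
  · obtain ⟨B', hBB', hB', h⟩ := TensorProduct.Algebra.eq_of_fg_of_subtype_eq hB (t := t) (t' := 0)
      (by rw [map_zero, ← e]; exact ht)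
    refine ⟨B', hBB', hB', fun B'' h' => ?_⟩
    rw [e, show (Subalgebra.inclusion (hBB'.trans h')).toLinearMap =
      (Subalgebra.inclusion h').toLinearMap ∘ₗ (Subalgebra.inclusion hBB').toLinearMap from rfl,
      LinearMap.rTensor_comp_apply, h, map_zero, map_zero]

end Groth.Agent.NbhdH7
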