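import Groth.Agent.Lib.NbhdH7.Descend

/-! A common étale neighbourhood over the completion is defined over a finitely generated algebra. -/

set_option autoImplicit false
set_option linter.style.haveILetI false
universe u

open TensorProduct

namespace Groth.Agent.NbhdH7

/-- The directed system of finitely generated subalgebras above nothing. -/
abbrev FgSub (R K : Type u) [CommRing R] [CommRing K] [Algebra R K] : Type u := {B : Subalgebra R K // B.FG}

instance isDirected_fgSub (R K : Type u) [CommRing R] [CommRing K] [Algebra R K] :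
    IsDirected (FgSub R K) (· ≤ ·) :=
  ⟨fun B B' => ⟨⟨B.1 ⊔ B'.1, Subalgebra.FG.sup B.2 B'.2⟩, Subtype.coe_le_coe.1 le_sup_left, Subtype.coe_le_coe.1 le_sup_right⟩⟩

instance nonempty_fgSub (R K : Type u) [CommRing R] [CommRing K] [Algebra R K] : Nonempty (FgSub R K) :=
  ⟨⟨⊥, Subalgebra.fg_bot⟩⟩

/-- The first stage: the étale map over `C`. -/
theorem exists_stage1 {AS AT K C D : Type u} [CommRing AS] [CommRing AT] [Algebra.FiniteType ℤ AT] [CommRing K]
    [Algebra AS K] [Algebra AT K] [CommRing C] [Algebra AS C] [CommRing D] (eh : K ⊗[AS] C →+* D) (he : eh.Etale) :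
    ∃ (B : Type u) (_ : CommRing B) (_ : Algebra AS B) (_ : Algebra B K) (_ : IsScalarTower AS B K) (_ : Algebra AT B)
      (_ : IsScalarTower AT B K), Algebra.FiniteType AS B ∧
      ∃ (D1 : Type u) (_ : CommRing D1) (_ : Algebra B D1) (_ : Algebra (B ⊗[AS] C) D1)
        (_ : IsScalarTower B (B ⊗[AS] C) D1), Algebra.Etale (B ⊗[AS] C) D1 ∧
        ∃ Ψ : K ⊗[B] D1 ≃+* D, ∀ p, Ψ (leg AS B K C D1 p) = eh p := by
  classical
  obtain ⟨t, ht⟩ := (inferInstance : Algebra.FiniteType ℤ AT).out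
  let B1 : Subalgebra AS K := Algebra.adjoin AS (↑(t.image (algebraMap AT K)) : Set K)
  have hB1 : B1.FG := Subalgebra.fg_adjoin_finset _
  have hσ : ∀ a : AT, algebraMap AT K a ∈ B1 := by
    intro a
    have : a ∈ Algebra.adjoin ℤ (↑t : Set AT) := ht ▸ Algebra.mem_top
    induction this using Algebra.adjoin_induction with
    | mem x hx =>
      refine Algebra.subset_adjoin ?_
      rw [Finset.coe_image]
      exact ⟨x, hx, rfl⟩
    | algebraMap r => rw [eq_intCast, map_intCast]; exact intCast_mem B1 r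
    | add x y _ _ hx hy => rw [map_add]; exact add_mem hx hy
    | mul x y _ _ hx hy => rw [map_mul]; exact mul_mem hx hy
  letI : Algebra (K ⊗[AS] C) D := eh.toAlgebra
  haveI : Algebra.Etale (K ⊗[AS] C) D := RingHom.etale_algebraMap.1 he
  let I1 := {B : Subalgebra AS K // B.FG ∧ B1 ≤ B}
  haveI : IsDirected I1 (· ≤ ·) := ⟨fun B B' => ⟨⟨B.1 ⊔ B'.1, Subalgebra.FG.sup B.2.1 B'.2.1, B.2.2.trans le_sup_left⟩,
    Subtype.coe_le_coe.1 le_sup_left, Subtype.coe_le_coe.1 le_sup_right⟩⟩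
  haveI : Nonempty I1 := ⟨⟨B1, hB1, le_rfl⟩⟩
  let g1 : ∀ B : I1, B.1 ⊗[AS] C →+* K ⊗[AS] C := fun B =>
    (Algebra.TensorProduct.map B.1.val (AlgHom.id AS C)).toRingHom
  let f1 : ∀ B B' : I1, B ≤ B' → (B.1 ⊗[AS] C →+* B'.1 ⊗[AS] C) := fun B B' h =>
    (Algebra.TensorProduct.map (Subalgebra.inclusion h) (AlgHom.id AS C)).toRingHom
  obtain ⟨i, D1, _, algD1, hD1, ⟨e⟩⟩ := Groth.Agent.S19569.result (G := fun B : I1 => B.1 ⊗[AS] C) f1 (K ⊗[AS] C) g1
    (fun B B' h => RingHom.ext fun z => by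
      show (Algebra.TensorProduct.map B'.1.val (AlgHom.id AS C))
        ((Algebra.TensorProduct.map (Subalgebra.inclusion h) (AlgHom.id AS C)) z) = _
      induction z using TensorProduct.induction_on with
      | zero => simp
      | tmul x c => simp [g1]
      | add a b ha hb => simp only [map_add, ha, hb])
    (fun z => by
      obtain ⟨B, hB, t, rfl⟩ := exists_tensor_stage.1 z
      refine ⟨⟨B ⊔ B1, Subalgebra.FG.sup hB hB1, le_sup_right⟩,
        Algebra.TensorProduct.map (Subalgebra.inclusion (le_sup_left : B ≤ B ⊔ B1)) (AlgHom.id AS C) t, ?_⟩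
      show (Algebra.TensorProduct.map (B ⊔ B1).val (AlgHom.id AS C)) _ = _
      induction t using TensorProduct.induction_on with
      | zero => simp
      | tmul x c => simp
      | add a b ha hb => simp only [map_add, ha, hb])
    (fun B z hz => by
      obtain ⟨B', h, hB', h0⟩ := exists_tensor_stage.2 B.1 B.2.1 z hz
      exact ⟨⟨B', hB', B.2.2.trans h⟩, h, h0 B' le_rfl⟩)
    D
  letI : Algebra AT ↥i.1 := ((algebraMap AT K).codRestrict i.1.toSubring fun a => i.2.2 (hσ a)).toAlgebra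
  letI : Algebra (↥i.1 ⊗[AS] C) D1 := algD1
  letI : Algebra ↥i.1 D1 := ((algebraMap (↥i.1 ⊗[AS] C) D1).comp (algebraMap ↥i.1 (↥i.1 ⊗[AS] C))).toAlgebra
  haveI : IsScalarTower ↥i.1 (↥i.1 ⊗[AS] C) D1 :=
    IsScalarTower.of_algebraMap_eq (R := ↥i.1) (S := ↥i.1 ⊗[AS] C) (A := D1) fun _ => rfl
  letI : Algebra (↥i.1 ⊗[AS] C) (K ⊗[AS] C) := (g1 i).toAlgebra
  obtain ⟨Φ, hΦ, -⟩ := exists_legEquiv AS ↥i.1 K C D1 fun z => rfl
  refine ⟨↥i.1, inferInstance, inferInstance, inferInstance, inferInstance, inferInstance,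
    IsScalarTower.of_algebraMap_eq fun _ => rfl, (Subalgebra.fg_iff_finiteType i.1).1 i.2.1, D1, inferInstance,
    inferInstance, inferInstance, inferInstance, hD1, Φ.symm.trans e.symm.toRingEquiv, fun p => ?_⟩
  show e.symm (Φ.symm (leg AS ↥i.1 K C D1 p)) = eh p
  rw [← hΦ, Φ.symm_apply_apply]
  exact e.symm.commutes p

set_option maxHeartbeats 800000 in
set_option synthInstance.maxHeartbeats 100000 in
/-- The second stage: the map from `Y`. -/
theorem exists_stage2 {AS AT K C Y D B2 D1 : Type u} [CommRing AS] [CommRing AT] [IsNoetherianRing AT] [CommRing K]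
    [Algebra AS K] [Algebra AT K] [CommRing C] [Algebra AS C] [CommRing Y] [Algebra AT Y] [Algebra.FiniteType AT Y]
    [CommRing D] [CommRing B2] [Algebra AS B2] [Algebra B2 K] [IsScalarTower AS B2 K] [Algebra AT B2]
    [IsScalarTower AT B2 K] [Algebra.FiniteType AS B2] [CommRing D1] [Algebra B2 D1] [Algebra (B2 ⊗[AS] C) D1]
    [IsScalarTower B2 (B2 ⊗[AS] C) D1] [Algebra.Etale (B2 ⊗[AS] C) D1]
    (eh : K ⊗[AS] C →+* D) (fh : K ⊗[AT] Y →+* D) (Ψ : K ⊗[B2] D1 ≃+* D)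
    (hΨ : ∀ p, Ψ (leg AS B2 K C D1 p) = eh p) (hcomm : ∀ k : K, eh (k ⊗ₜ 1) = fh (k ⊗ₜ 1)) :
    ∃ (B : Type u) (_ : CommRing B) (_ : Algebra AS B) (_ : Algebra B K) (_ : IsScalarTower AS B K) (_ : Algebra AT B)
      (_ : IsScalarTower AT B K), Algebra.FiniteType AS B ∧
      ∃ (D3 : Type u) (_ : CommRing D3) (_ : Algebra B D3) (_ : Algebra (B ⊗[AS] C) D3)
        (_ : IsScalarTower B (B ⊗[AS] C) D3) (_ : Algebra (B ⊗[AT] Y) D3) (_ : IsScalarTower B (B ⊗[AT] Y) D3),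
        Algebra.Etale (B ⊗[AS] C) D3 ∧
        ∃ Ψ3 : K ⊗[B] D3 ≃+* D, (∀ p, Ψ3 (leg AS B K C D3 p) = eh p) ∧ ∀ p, Ψ3 (leg AT B K Y D3 p) = fh p := by
  have hΨ1 : ∀ k : K, Ψ (k ⊗ₜ 1) = fh (k ⊗ₜ 1) := fun k => by
    rw [← hcomm, ← hΨ, leg_tmul, ← Algebra.TensorProduct.one_def, map_one]
  letI : Algebra AT D1 := Algebra.compHom D1 (algebraMap AT B2)
  haveI : IsScalarTower AT B2 D1 := IsScalarTower.of_algebraMap_eq fun _ => rfl
  let h : Y →ₐ[AT] K ⊗[B2] D1 :=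
    { Ψ.symm.toRingHom.comp (fh.comp (Algebra.TensorProduct.includeRight : Y →ₐ[AT] K ⊗[AT] Y).toRingHom) with
      commutes' := fun a => by
        refine Ψ.injective ?_
        show Ψ (Ψ.symm (fh ((1 : K) ⊗ₜ algebraMap AT Y a))) = _
        rw [Ψ.apply_symm_apply, show algebraMap AT (K ⊗[B2] D1) a = (algebraMap AT K a) ⊗ₜ (1 : D1) from rfl, hΨ1,
          ← Algebra.TensorProduct.includeRight_apply (R := AT), AlgHom.commutes]
        rfl }
  let g2 : ∀ B : FgSub B2 K, B.1 ⊗[B2] D1 →ₐ[AT] K ⊗[B2] D1 := fun B =>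
    (Algebra.TensorProduct.map B.1.val (AlgHom.id B2 D1)).restrictScalars AT
  let f2 : ∀ B B' : FgSub B2 K, B ≤ B' → (B.1 ⊗[B2] D1 →ₐ[AT] B'.1 ⊗[B2] D1) := fun B B' h =>
    (Algebra.TensorProduct.map (Subalgebra.inclusion h) (AlgHom.id B2 D1)).restrictScalars AT
  obtain ⟨j, hj, hhj⟩ := exists_stage_lift (R := AT) f2 g2
    (fun B B' h z => by
      show (Algebra.TensorProduct.map B'.1.val (AlgHom.id B2 D1))
        ((Algebra.TensorProduct.map (Subalgebra.inclusion h) (AlgHom.id B2 D1)) z) = _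
      induction z using TensorProduct.induction_on with
      | zero => simp
      | tmul x c => simp [g2]
      | add a b ha hb => simp only [map_add, ha, hb])
    (fun z => by
      obtain ⟨B, hB, t, rfl⟩ := exists_tensor_stage.1 z
      exact ⟨⟨B, hB⟩, t, rfl⟩)
    (fun B z hz => by
      obtain ⟨B', h, hB', h0⟩ := exists_tensor_stage.2 B.1 B.2 z hz
      exact ⟨⟨B', hB'⟩, h, fun l hl => h0 l.1 hl⟩) h
  let B3 := ↥j.1
  haveI : Algebra.FiniteType B2 B3 := (Subalgebra.fg_iff_finiteType j.1).1 j.2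
  let D3 := B3 ⊗[B2] D1
  let e3 : B3 ⊗[AS] C →ₐ[AS] D3 := leg AS B2 B3 C D1
  have he3 : e3.toRingHom.Etale := etale_leg AS B2 B3 C D1
  let f3 : B3 ⊗[AT] Y →ₐ[AT] D3 := Algebra.TensorProduct.lift
    ((Algebra.TensorProduct.includeLeft : B3 →ₐ[B2] D3).restrictScalars AT) hj fun _ _ => Commute.all _ _
  have hf3 : ∀ (x : B3) (y : Y), f3 (x ⊗ₜ y) = (x ⊗ₜ[B2] (1 : D1)) * hj y := fun x y =>
    Algebra.TensorProduct.lift_tmul _ _ _ _ _
  have hf31 : ∀ x : B3, f3 (x ⊗ₜ 1) = x ⊗ₜ[B2] (1 : D1) := fun x => by rw [hf3, map_one, mul_one]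
  letI : Algebra (B3 ⊗[AT] Y) D3 := f3.toRingHom.toAlgebra
  haveI : IsScalarTower B3 (B3 ⊗[AT] Y) D3 :=
    IsScalarTower.of_algebraMap_eq (R := B3) (S := B3 ⊗[AT] Y) (A := D3) fun x => (hf31 x).symm
  letI : Algebra (B3 ⊗[AS] C) D3 := e3.toRingHom.toAlgebra
  haveI : IsScalarTower B3 (B3 ⊗[AS] C) D3 := IsScalarTower.of_algebraMap_eq (R := B3) (S := B3 ⊗[AS] C) (A := D3) fun x => by
    show x ⊗ₜ[B2] (1 : D1) = leg AS B2 B3 C D1 (x ⊗ₜ 1)
    rw [leg_tmul, ← Algebra.TensorProduct.one_def, map_one]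
  haveI : Algebra.Etale (B3 ⊗[AS] C) D3 := RingHom.etale_algebraMap.1 he3
  let c3 : K ⊗[B3] D3 ≃ₐ[B3] K ⊗[B2] D1 := Algebra.TensorProduct.cancelBaseChange B2 B3 B3 K D1
  have hc3 : ∀ (k : K) (x : B3) (d : D1), c3 (k ⊗ₜ (x ⊗ₜ d)) = (x • k) ⊗ₜ d := fun k x d =>
    Algebra.TensorProduct.cancelBaseChange_tmul (R := B2) (S := B3) (T := B3) (A := K) (B := D1) k x d
  let Ψ3 : K ⊗[B3] D3 ≃+* D := c3.toRingEquiv.trans Ψ
  have hc3' : ∀ (k : K) (z : D3), c3 (k ⊗ₜ z) = (k ⊗ₜ[B2] (1 : D1)) * g2 j z := by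
    intro k z
    induction z using TensorProduct.induction_on with
    | zero => simp
    | tmul x d =>
      show c3 (k ⊗ₜ (x ⊗ₜ d)) = (k ⊗ₜ[B2] (1 : D1)) * ((x : K) ⊗ₜ[B2] d)
      rw [hc3, Algebra.TensorProduct.tmul_mul_tmul, one_mul, Subalgebra.smul_def, smul_eq_mul, mul_comm]
    | add a b ha hb => rw [TensorProduct.tmul_add, map_add, map_add, ha, hb, mul_add]
  have hΨ3f : ∀ k y, Ψ3 (leg AT B3 K Y D3 (k ⊗ₜ y)) = fh (k ⊗ₜ y) := fun k y => by
    rw [leg_tmul]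
    show Ψ (c3 (k ⊗ₜ f3 ((1 : B3) ⊗ₜ y))) = _
    rw [hc3', hf3, ← Algebra.TensorProduct.one_def, one_mul, show g2 j (hj y) = h y from DFunLike.congr_fun hhj y,
      map_mul, hΨ1, show Ψ (h y) = fh ((1 : K) ⊗ₜ y) from Ψ.apply_symm_apply _, ← map_mul,
      Algebra.TensorProduct.tmul_mul_tmul, mul_one, one_mul]
  refine ⟨B3, inferInstance, inferInstance, inferInstance, inferInstance, inferInstance, inferInstance,
    Algebra.FiniteType.trans (S := B2) inferInstance inferInstance, D3, inferInstance, inferInstance, inferInstance,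
    inferInstance, inferInstance, inferInstance, inferInstance, Ψ3, fun p => ?_, fun p => ?_⟩
  · induction p using TensorProduct.induction_on with
    | zero => simp
    | tmul k c =>
      rw [leg_tmul]
      show Ψ (c3 (k ⊗ₜ (leg AS B2 B3 C D1 ((1 : B3) ⊗ₜ c)))) = eh (k ⊗ₜ c)
      rw [leg_tmul, hc3, one_smul, ← hΨ, leg_tmul]
    | add a b ha hb => simp only [map_add, ha, hb]
  · induction p using TensorProduct.induction_on with
    | zero => simp
    | tmul k y => exact hΨ3f k y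
    | add a b ha hb => simp only [map_add, ha, hb]

/-- Étale neighbourhoods over `K` descend. -/
theorem exists_descend {AS AT K C Y D : Type u} [CommRing AS] [IsNoetherianRing AS] [CommRing AT] [IsNoetherianRing AT]
    [Algebra.FiniteType ℤ AT] [CommRing K] [Algebra AS K] [Algebra AT K] [CommRing C] [Algebra AS C]
    [Algebra.FiniteType AS C] [CommRing Y] [Algebra AT Y] [Algebra.FiniteType AT Y] [CommRing D]
    (eh : K ⊗[AS] C →+* D) (fh : K ⊗[AT] Y →+* D) (he : eh.Etale) (hf : fh.Etale)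
    (hcomm : ∀ k : K, eh (k ⊗ₜ 1) = fh (k ⊗ₜ 1)) :
    ∃ (B : Type u) (_ : CommRing B) (_ : Algebra AS B) (_ : Algebra AT B),
      Algebra.FiniteType AS B ∧ ∃ b : B →ₐ[AS] K, (∀ a, b (algebraMap AT B a) = algebraMap AT K a) ∧
        ∃ (DB : Type u) (_ : CommRing DB) (eB : B ⊗[AS] C →+* DB) (fB : B ⊗[AT] Y →+* DB) (π : DB →+* D),
          eB.Etale ∧ fB.Etale ∧ (∀ x : B, eB (x ⊗ₜ 1) = fB (x ⊗ₜ 1)) ∧
          (∀ x c, π (eB (x ⊗ₜ c)) = eh (b x ⊗ₜ c)) ∧ ∀ x y, π (fB (x ⊗ₜ y)) = fh (b x ⊗ₜ y) := by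
  obtain ⟨B2, _, _, _, _, _, _, hB2, D1, _, _, _, _, hD1, Ψ, hΨ⟩ := exists_stage1 (AT := AT) eh he
  obtain ⟨B3, _, _, _, _, _, _, hB3, D3, _, _, _, _, _, _, hD3, Ψ3, hΨ3e, hΨ3⟩ := exists_stage2 eh fh Ψ hΨ hcomm
  have hlegK : (leg AT B3 K Y D3).toRingHom.Etale := by
    have h0 := RingHom.Etale.stableUnderComposition _ _ hf
      (RingHom.Etale.of_bijective (R := D) (S := K ⊗[B3] D3) (f := Ψ3.symm.toRingHom) Ψ3.symm.bijective)
    convert h0 using 1
    refine RingHom.ext fun p => Ψ3.injective ?_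
    exact (hΨ3 p).trans (Ψ3.apply_symm_apply _).symm
  haveI : Algebra.FinitePresentation (B3 ⊗[AT] Y) D3 := by
    haveI : Algebra.FinitePresentation AS C := Algebra.FinitePresentation.of_finiteType.1 inferInstance
    haveI : Algebra.FinitePresentation B3 D3 := Algebra.FinitePresentation.trans B3 (B3 ⊗[AS] C) D3
    exact Algebra.FinitePresentation.of_restrict_scalars_finitePresentation B3 (B3 ⊗[AT] Y) D3
  obtain ⟨l, hl⟩ := Groth.Agent.S9421.result B3 (fun B : FgSub B3 K => B.1) (fun B B' h => Subalgebra.inclusion h) K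
    (fun B => B.1.val) (fun B B' h => AlgHom.ext fun _ => rfl)
    (fun a => ⟨⟨Algebra.adjoin B3 (↑({a} : Finset K) : Set K), Subalgebra.fg_adjoin_finset _⟩,
      ⟨a, Algebra.subset_adjoin (by simp)⟩, rfl⟩)
    (fun B x hx => ⟨B, le_rfl, Subtype.ext hx⟩) (B3 ⊗[AT] Y) D3 ((etale_tensor_iff AT B3 K Y D3).2 hlegK)
  haveI : Algebra.FiniteType B3 ↥l.1 := (Subalgebra.fg_iff_finiteType l.1).1 l.2
  refine ⟨↥l.1, inferInstance, inferInstance, inferInstance, Algebra.FiniteType.trans (S := B3) inferInstance inferInstance,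
    l.1.val.restrictScalars AS, fun a => ((IsScalarTower.algebraMap_apply AT ↥l.1 K a).symm : (algebraMap ↥l.1 K) (algebraMap AT ↥l.1 a) = algebraMap AT K a), ↥l.1 ⊗[B3] D3, inferInstance,
    (leg AS B3 ↥l.1 C D3).toRingHom, (leg AT B3 ↥l.1 Y D3).toRingHom,
    Ψ3.toRingHom.comp (Algebra.TensorProduct.map l.1.val (AlgHom.id B3 D3)).toRingHom,
    etale_leg AS B3 ↥l.1 C D3, (etale_tensor_iff AT B3 ↥l.1 Y D3).1 hl, fun x => ?_, fun x c => ?_, fun x y => ?_⟩
  · show leg AS B3 ↥l.1 C D3 (x ⊗ₜ 1) = leg AT B3 ↥l.1 Y D3 (x ⊗ₜ 1)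
    rw [leg_tmul, leg_tmul, ← Algebra.TensorProduct.one_def, ← Algebra.TensorProduct.one_def, map_one, map_one]
  · show Ψ3 (Algebra.TensorProduct.map l.1.val (AlgHom.id B3 D3) (leg AS B3 ↥l.1 C D3 (x ⊗ₜ c))) = _
    rw [leg_tmul, Algebra.TensorProduct.map_tmul]
    exact (congrArg Ψ3 (leg_tmul AS B3 K C D3 (x : K) c).symm).trans (hΨ3e _)
  · show Ψ3 (Algebra.TensorProduct.map l.1.val (AlgHom.id B3 D3) (leg AT B3 ↥l.1 Y D3 (x ⊗ₜ y))) = _
    rw [leg_tmul, Algebra.TensorProduct.map_tmul]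
    exact (congrArg Ψ3 (leg_tmul AT B3 K Y D3 (x : K) y).symm).trans (hΨ3 _)

end Groth.Agent.NbhdH7
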