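import Mathlib

/-! Generators of residue fields. -/

set_option autoImplicit false
set_option linter.style.haveILetI false
universe u

open IsLocalRing

namespace Groth.Agent.NbhdH7

variable {R κ : Type u} [CommRing R] [Field κ]

/-- The image of a local ring in a field is a subfield. -/
theorem exists_eq_of_closure_eq_top {O : Type u} [CommRing O] [IsLocalRing O] (χ : O →+* κ) [IsLocalHom χ]
    {s : Set κ} (hs : s ⊆ Set.range χ) (hgen : Subfield.closure s = ⊤) : Function.Surjective χ := by
  intro x
  let S : Subfield κ := (ResidueField.lift χ).fieldRange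
  have hS : Subfield.closure s ≤ S := Subfield.closure_le.2 fun y hy => by
    obtain ⟨a, rfl⟩ := hs hy
    exact ⟨residue O a, ResidueField.lift_residue_apply χ a⟩
  obtain ⟨y, hy⟩ : x ∈ S := hS (hgen ▸ Subfield.mem_top x)
  obtain ⟨a, rfl⟩ := residue_surjective (R := O) y
  exact ⟨a, (ResidueField.lift_residue_apply χ a).symm.trans hy⟩

/-- Generators may be replaced by elements lying in a subfield. -/
theorem closure_eq_top_of_subset {s t : Set κ} (h : Subfield.closure s = ⊤) (hst : s ⊆ Subfield.closure t) :
    Subfield.closure t = ⊤ :=
  top_le_iff.1 (h ▸ Subfield.closure_le.2 hst)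

/-- A localisation at the kernel of a map to a field has image generated by the ring. -/
theorem mem_closure_of_isLocalization (M : Submonoid R) {O : Type u} [CommRing O] [Algebra R O] [IsLocalization M O]
    (χ : O →+* κ) (z : O) : χ z ∈ Subfield.closure (Set.range (χ.comp (algebraMap R O))) := by
  obtain ⟨⟨r, m⟩, h⟩ := IsLocalization.surj M z
  have hm : IsUnit (χ (algebraMap R O m)) := (IsLocalization.map_units O m).map χ
  have hz : χ z = χ (algebraMap R O r) / χ (algebraMap R O m) := by
    rw [eq_div_iff hm.ne_zero, ← map_mul]; exact congrArg χ h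
  rw [hz]
  exact div_mem (Subfield.subset_closure ⟨r, rfl⟩) (Subfield.subset_closure ⟨(m : R), rfl⟩)

end Groth.Agent.NbhdH7
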