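import Mathlib
import Groth.Agent.Lib.NbhdH7.Gen
import Groth.Agent.Lib.ArtinApproxH7.Scheme

/-! Points, residue fields and fibre products of affine schemes. -/

set_option autoImplicit false
set_option linter.style.haveILetI false
universe u

open AlgebraicGeometry CategoryTheory Limits IsLocalRing TensorProduct

namespace Groth.Agent.NbhdH7

section Spec

variable {R S : Type u} [CommRing R] [CommRing S]

/-- Points are primes. -/
local instance isPrime_asIdeal (v : Spec (CommRingCat.of R)) : v.asIdeal.IsPrime := v.2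

/-- The map to the stalk. -/
noncomputable abbrev toSt (v : Spec (CommRingCat.of R)) : R →+* (Spec (CommRingCat.of R)).presheaf.stalk v :=
  ((Scheme.ΓSpecIso (CommRingCat.of R)).inv ≫ (Spec (CommRingCat.of R)).presheaf.germ ⊤ v trivial).hom

theorem stalkMap_toSt (f : R →+* S) (w : Spec (CommRingCat.of S)) (r : R) :
    ((Spec.map (CommRingCat.ofHom f)).stalkMap w).hom (toSt (Spec.map (CommRingCat.ofHom f) w) r) = toSt w (f r) := by
  have h : ((Scheme.ΓSpecIso (CommRingCat.of R)).inv ≫ (Spec (CommRingCat.of R)).presheaf.germ ⊤ _ trivial) ≫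
      (Spec.map (CommRingCat.ofHom f)).stalkMap w =
      CommRingCat.ofHom f ≫ (Scheme.ΓSpecIso (CommRingCat.of S)).inv ≫
        (Spec (CommRingCat.of S)).presheaf.germ ⊤ w trivial := by
    refine (Category.assoc _ _ _).trans ?_
    refine (congrArg (fun m => (Scheme.ΓSpecIso (CommRingCat.of R)).inv ≫ m) (Scheme.Hom.germ_stalkMap _ _ _ _)).trans ?_
    exact (Scheme.ΓSpecIso_inv_naturality_assoc (CommRingCat.ofHom f) _).symm
  exact ConcreteCategory.congr_hom h r

theorem isLocalization_toSt (v : Spec (CommRingCat.of R)) :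
    letI := (toSt v).toAlgebra
    IsLocalization.AtPrime ((Spec (CommRingCat.of R)).presheaf.stalk v) v.asIdeal :=
  StructureSheaf.IsLocalization.to_stalk R v

theorem toSt_mem_maximalIdeal_iff (v : Spec (CommRingCat.of R)) (r : R) :
    toSt v r ∈ maximalIdeal _ ↔ r ∈ v.asIdeal := by
  letI := (toSt v).toAlgebra
  haveI := isLocalization_toSt v
  rw [← Ideal.mem_comap (f := toSt v)]
  exact iff_of_eq (congrArg (r ∈ ·) (IsLocalization.AtPrime.under_maximalIdeal _ v.asIdeal))

/-- A morphism of affine schemes has trivial residue extension if the residue field is generated by the source. -/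
theorem bijective_residueFieldMap_SpecMap {κ : Type u} [Field κ] (f : R →+* S) (χ : S →+* κ)
    (w : Spec (CommRingCat.of S)) (hw : w.asIdeal = RingHom.ker χ)
    (hgen : Subfield.closure (Set.range (χ.comp f)) = ⊤) :
    Function.Bijective ((Spec.map (CommRingCat.ofHom f)).residueFieldMap w) := by
  letI := (toSt w).toAlgebra
  haveI := isLocalization_toSt w
  have hu : ∀ t : w.asIdeal.primeCompl, IsUnit (χ t) := fun t => by
    rw [isUnit_iff_ne_zero]
    exact fun h => t.2 ((Ideal.ext_iff.1 hw _).2 (RingHom.mem_ker.2 h))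
  let χw : (Spec (CommRingCat.of S)).presheaf.stalk w →+* κ := IsLocalization.lift hu
  have hχw : ∀ s, χw (toSt w s) = χ s := fun s => IsLocalization.lift_eq hu s
  haveI hl : IsLocalHom χw := ⟨fun z hz => by
    obtain ⟨⟨s, t⟩, h⟩ := IsLocalization.surj w.asIdeal.primeCompl z
    dsimp only at h
    have h1 : IsUnit (χw (toSt w s)) := by
      rw [show toSt w s = z * toSt w t from h.symm, map_mul, hχw]; exact hz.mul (hu t)
    rw [hχw, isUnit_iff_ne_zero] at h1
    have h2 : IsUnit (algebraMap S ((Spec (CommRingCat.of S)).presheaf.stalk w) s) := IsLocalization.map_units (M := w.asIdeal.primeCompl) _ ⟨s, fun hs => h1 (RingHom.mem_ker.1 ((Ideal.ext_iff.1 hw _).1 hs))⟩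
    rw [← h] at h2
    exact isUnit_of_mul_isUnit_left h2⟩
  refine ArtinApproxH7.bijective_residueFieldMap_of_sm _ (u := w) rfl fun z => ?_
  haveI : IsLocalHom (χw.comp ((Spec.map (CommRingCat.ofHom f)).stalkMap w).hom) := inferInstance
  obtain ⟨c, hc⟩ := exists_eq_of_closure_eq_top (χw.comp ((Spec.map (CommRingCat.ofHom f)).stalkMap w).hom)
    (s := Set.range (χ.comp f)) (by
      rintro _ ⟨r, rfl⟩
      exact ⟨toSt _ r, by rw [RingHom.comp_apply, stalkMap_toSt, hχw]; rfl⟩) hgen (χw z)
  refine ⟨c, fun hu' => ?_⟩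
  have h0 : IsUnit (χw (z - ((Spec.map (CommRingCat.ofHom f)).stalkMap w).hom c)) := by
    refine IsUnit.map χw ?_
    simpa [ArtinApproxH7.sm, TopCat.Presheaf.stalkCongr] using hu'
  rw [map_sub, show χw (((Spec.map (CommRingCat.ofHom f)).stalkMap w).hom c) = χw z from hc, sub_self] at h0
  exact not_isUnit_zero h0

/-- The residue map at a point. -/
noncomputable def resAt (w : Spec (CommRingCat.of S)) :
    S →+* ResidueField ((Spec (CommRingCat.of S)).presheaf.stalk w) :=
  (residue _).comp (toSt w)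

theorem ker_resAt (w : Spec (CommRingCat.of S)) : RingHom.ker (resAt w) = w.asIdeal :=
  Ideal.ext fun s => (RingHom.mem_ker).trans ((residue_eq_zero_iff _).trans (toSt_mem_maximalIdeal_iff w s))

/-- Trivial residue extensions: the residue field is generated by the source. -/
theorem closure_range_resAt (f : R →+* S) (w : Spec (CommRingCat.of S))
    (h : Function.Bijective ((Spec.map (CommRingCat.ofHom f)).residueFieldMap w)) :
    Subfield.closure (Set.range ((resAt w).comp f)) = ⊤ := by
  refine top_le_iff.1 fun y _ => ?_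
  obtain ⟨x, rfl⟩ := h.2 y
  obtain ⟨c, rfl⟩ := residue_surjective (R := (Spec (CommRingCat.of R)).presheaf.stalk _) x
  letI := (toSt (Spec.map (CommRingCat.ofHom f) w)).toAlgebra
  haveI := isLocalization_toSt (Spec.map (CommRingCat.ofHom f) w)
  have hm := mem_closure_of_isLocalization (R := R) (Spec.map (CommRingCat.ofHom f) w).asIdeal.primeCompl
    ((residue _).comp ((Spec.map (CommRingCat.ofHom f)).stalkMap w).hom) c
  have hsub : ((residue _).comp ((Spec.map (CommRingCat.ofHom f)).stalkMap w).hom).comp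
      (algebraMap R ((Spec (CommRingCat.of R)).presheaf.stalk _)) = (resAt w).comp f :=
    RingHom.ext fun r => congrArg (residue _) (stalkMap_toSt f w r)
  rw [hsub] at hm
  exact hm

/-- Points given by kernels map as the maps say. -/
theorem SpecMap_apply_eq {κ : Type u} [Field κ] (f : R →+* S) (χ : S →+* κ) (w : Spec (CommRingCat.of S))
    (hw : w.asIdeal = RingHom.ker χ) (v : Spec (CommRingCat.of R)) (hv : v.asIdeal = RingHom.ker (χ.comp f)) :
    Spec.map (CommRingCat.ofHom f) w = v := by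
  refine PrimeSpectrum.ext ?_
  show Ideal.comap f w.asIdeal = v.asIdeal
  rw [hw, hv, RingHom.comap_ker]

theorem bijective_residueFieldMap_comp_iso {X Y Z : Scheme.{u}} (f : X ⟶ Y) (i : Y ⟶ Z) [IsOpenImmersion i] (w : X)
    (h : Function.Bijective (f.residueFieldMap w)) : Function.Bijective ((f ≫ i).residueFieldMap w) := by
  rw [Scheme.residueFieldMap_comp]
  exact h.comp (ConcreteCategory.bijective_of_isIso (i.residueFieldMap (f w)))

theorem bijective_residueFieldMap_of_comp_iso {X Y Z : Scheme.{u}} (i : X ⟶ Y) (f : Y ⟶ Z) [IsOpenImmersion i] (w : X)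
    (h : Function.Bijective (f.residueFieldMap (i w))) : Function.Bijective ((i ≫ f).residueFieldMap w) := by
  rw [Scheme.residueFieldMap_comp]
  exact (ConcreteCategory.bijective_of_isIso (i.residueFieldMap w)).comp h

end Spec

/-- Maps out of tensor products. -/
theorem exists_tensor_hom {A B C T : Type u} [CommRing A] [CommRing B] [CommRing C] [CommRing T] [Algebra A B]
    [Algebra A C] (f : B →+* T) (g : C →+* T) (h : ∀ a, f (algebraMap A B a) = g (algebraMap A C a)) :
    ∃ θ : B ⊗[A] C →+* T, ∀ b c, θ (b ⊗ₜ c) = f b * g c := by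
  letI : Algebra A T := (f.comp (algebraMap A B)).toAlgebra
  exact ⟨(Algebra.TensorProduct.lift (⟨f, fun _ => rfl⟩ : B →ₐ[A] T) ⟨g, fun a => (h a).symm⟩
    fun _ _ => Commute.all _ _).toRingHom, fun b c => Algebra.TensorProduct.lift_tmul _ _ _ _ _⟩

/-- An affine chart of a fibre product with an affine scheme. -/
theorem exists_pullback_chart {Y T : Scheme.{u}} (q : Y ⟶ T) {UT : T.Opens} (hUT : IsAffineOpen UT) {UY : Y.Opens}
    (hUY : IsAffineOpen UY) (e : UY ≤ q ⁻¹ᵁ UT) (K : Type u) [CommRing K] [Algebra Γ(T, UT) K]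
    [Algebra Γ(T, UT) Γ(Y, UY)] (hq : algebraMap Γ(T, UT) Γ(Y, UY) = (q.appLE UT UY e).hom)
    (τ : Spec (CommRingCat.of K) ⟶ T)
    (hτ : τ = Spec.map (CommRingCat.ofHom (algebraMap Γ(T, UT) K)) ≫ hUT.fromSpec) :
    ∃ j : Spec (CommRingCat.of (K ⊗[Γ(T, UT)] Γ(Y, UY))) ⟶ pullback q τ, IsOpenImmersion j ∧
      j ≫ pullback.fst q τ =
        Spec.map (CommRingCat.ofHom (Algebra.TensorProduct.includeRight : Γ(Y, UY) →ₐ[Γ(T, UT)] K ⊗[Γ(T, UT)] Γ(Y, UY)).toRingHom) ≫
          hUY.fromSpec ∧
      j ≫ pullback.snd q τ = Spec.map (CommRingCat.ofHom (Algebra.TensorProduct.includeLeftRingHom :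
        K →+* K ⊗[Γ(T, UT)] Γ(Y, UY))) ∧
      ∀ z, pullback.fst q τ z ∈ UY → z ∈ Set.range j := by
  let f1 := Spec.map (CommRingCat.ofHom (algebraMap Γ(T, UT) K))
  let f2 := Spec.map (CommRingCat.ofHom (algebraMap Γ(T, UT) Γ(Y, UY)))
  have e1 : f1 ≫ hUT.fromSpec = 𝟙 _ ≫ τ := by rw [Category.id_comp]; exact hτ.symm
  have e2 : f2 ≫ hUT.fromSpec = hUY.fromSpec ≫ q := by
    rw [← hUT.SpecMap_appLE_fromSpec q hUY e]
    simp only [f2, hq]
    rfl
  let m := pullback.map f1 f2 τ q (𝟙 _) hUY.fromSpec hUT.fromSpec e1 e2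
  let j := (pullbackSpecIso Γ(T, UT) K Γ(Y, UY)).inv ≫ m ≫ (pullbackSymmetry τ q).hom
  haveI : IsOpenImmersion m := inferInstance
  refine ⟨j, inferInstance, ?_, ?_, fun z hz => ?_⟩
  · simp only [j, m, Category.assoc, pullbackSymmetry_hom_comp_fst, pullback.map]
    rw [pullback.lift_snd, ← Category.assoc, pullbackSpecIso_inv_snd]
    rfl
  · simp only [j, m, Category.assoc, pullbackSymmetry_hom_comp_snd, pullback.map]
    rw [pullback.lift_fst, Category.comp_id, pullbackSpecIso_inv_fst]
  · let z' := (pullbackSymmetry τ q).inv z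
    have hm : z' ∈ Set.range m := by
      rw [Scheme.Pullback.range_map]
      refine ⟨⟨pullback.fst τ q z', by simp⟩, ?_⟩
      show pullback.snd τ q z' ∈ Set.range hUY.fromSpec
      rw [hUY.range_fromSpec, ← Scheme.Hom.comp_apply, pullbackSymmetry_inv_comp_snd]
      exact hz
    obtain ⟨a, ha⟩ := hm
    refine ⟨(pullbackSpecIso Γ(T, UT) K Γ(Y, UY)).hom a, ?_⟩
    simp only [j, Scheme.Hom.comp_apply]
    rw [show (pullbackSpecIso Γ(T, UT) K Γ(Y, UY)).inv ((pullbackSpecIso Γ(T, UT) K Γ(Y, UY)).hom a) = a by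
      rw [← Scheme.Hom.comp_apply, Iso.hom_inv_id]; rfl, ha]
    show (pullbackSymmetry τ q).hom ((pullbackSymmetry τ q).inv z) = z
    rw [← Scheme.Hom.comp_apply, Iso.inv_hom_id]
    rfl

end Groth.Agent.NbhdH7
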