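import Groth.Agent.Lib.NbhdH7.DescendMain
import Groth.Agent.Lib.NbhdH7.Scheme
import Groth.Agent.Lib.FlatDepth.CplMap

/-! Common étale neighbourhoods over a completion give common étale neighbourhoods. -/

set_option autoImplicit false
set_option linter.style.haveILetI false
universe u

open AlgebraicGeometry CategoryTheory Limits IsLocalRing TensorProduct

namespace Groth.Agent.NbhdH7

open CplLocH7 (Cpl)

section Residue

variable {A L κ : Type u} [CommRing A] [CommRing L] [IsLocalRing L] [IsNoetherianRing L] [Algebra A L] [Field κ]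

/-- A map killing the maximal ideal of the completion has image generated by the ring. -/
theorem mem_closure_of_kills_maximal (MA : Submonoid A) [IsLocalization MA L] (ρ : Cpl L →+* κ)
    (hρ : ∀ k ∈ maximalIdeal (Cpl L), ρ k = 0) (k : Cpl L) :
    ρ k ∈ Subfield.closure (Set.range (ρ.comp (algebraMap A (Cpl L)))) := by
  obtain ⟨l, hl⟩ := CplLocH7.exists_sub_mem_pow 1 k
  rw [pow_one] at hl
  have h1 : ρ k = ρ (algebraMap L (Cpl L) l) := sub_eq_zero.1 (by rw [← map_sub]; exact hρ _ hl)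
  have hm := mem_closure_of_isLocalization (R := A) MA (ρ.comp (algebraMap L (Cpl L))) l
  rw [RingHom.comp_assoc, ← IsScalarTower.algebraMap_eq] at hm
  rw [h1]
  exact hm

end Residue

/-- A tensor product of subfield generators. -/
theorem closure_range_tensor {A K C κ : Type u} [CommRing A] [CommRing K] [CommRing C] [Algebra A K] [Algebra A C]
    [Field κ] (θ : K ⊗[A] C →+* κ) (s : Set κ) (hgen : Subfield.closure (Set.range θ) = ⊤)
    (h1 : ∀ k, θ (k ⊗ₜ 1) ∈ Subfield.closure s) (h2 : ∀ c, θ (1 ⊗ₜ c) ∈ Subfield.closure s) :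
    Subfield.closure s = ⊤ := by
  refine closure_eq_top_of_subset hgen ?_
  rintro _ ⟨z, rfl⟩
  induction z using TensorProduct.induction_on with
  | zero => rw [map_zero]; exact zero_mem _
  | tmul k c =>
    rw [show k ⊗ₜ[A] c = (k ⊗ₜ 1) * (1 ⊗ₜ c) by rw [Algebra.TensorProduct.tmul_mul_tmul, mul_one, one_mul], map_mul]
    exact mul_mem (h1 k) (h2 c)
  | add a b ha hb => rw [map_add]; exact add_mem ha hb

set_option maxHeartbeats 1600000 in
/-- The neighbourhoods. -/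
theorem exists_nbhd {X Y S T : Scheme.{u}} (p : X ⟶ S) (q : Y ⟶ T) {US : S.Opens} (hUS : IsAffineOpen US)
    {UX : X.Opens} (hUX : IsAffineOpen UX) (eX : UX ≤ p ⁻¹ᵁ US) {UT : T.Opens} (hUT : IsAffineOpen UT) {UY : Y.Opens}
    (hUY : IsAffineOpen UY) (eY : UY ≤ q ⁻¹ᵁ UT) (x : X) (y : Y) (hxU : x ∈ UX) (hyU : y ∈ UY) (hsU : p x ∈ US)
    (htU : q y ∈ UT)
    [IsNoetherianRing Γ(S, US)] [IsNoetherianRing Γ(T, UT)] [Algebra.FiniteType ℤ Γ(T, UT)]
    [Algebra Γ(S, US) Γ(X, UX)] (hp : algebraMap Γ(S, US) Γ(X, UX) = (p.appLE US UX eX).hom)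
    [Algebra Γ(T, UT) Γ(Y, UY)] (hq : algebraMap Γ(T, UT) Γ(Y, UY) = (q.appLE UT UY eY).hom)
    [Algebra.FiniteType Γ(S, US) Γ(X, UX)] [Algebra.FiniteType Γ(T, UT) Γ(Y, UY)]
    {L : Type u} [CommRing L] [IsLocalRing L] [IsNoetherianRing L] [Algebra Γ(S, US) L] (MA : Submonoid Γ(S, US))
    [IsLocalization MA L] [Algebra Γ(T, UT) (Cpl L)] (hreg : CAlg.IsRegularHom Γ(S, US) (Cpl L))
    (hs : (maximalIdeal L).comap (algebraMap Γ(S, US) L) =
      (maximalIdeal (S.presheaf.stalk (p x))).comap (S.presheaf.germ US (p x) hsU).hom)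
    (ht : ∀ a, algebraMap Γ(T, UT) (Cpl L) a ∈ maximalIdeal (Cpl L) ↔
      (T.presheaf.germ UT (q y) htU).hom a ∈ maximalIdeal (T.presheaf.stalk (q y)))
    {D κ : Type u} [CommRing D] [Field κ]
    (eh : Cpl L ⊗[Γ(S, US)] Γ(X, UX) →+* D) (fh : Cpl L ⊗[Γ(T, UT)] Γ(Y, UY) →+* D) (he : eh.Etale) (hf : fh.Etale)
    (hcomm : ∀ k, eh (k ⊗ₜ 1) = fh (k ⊗ₜ 1)) (χ0 : D →+* κ)
    (hm0 : ∀ k ∈ maximalIdeal (Cpl L), χ0 (eh (k ⊗ₜ 1)) = 0)
    (hge : Subfield.closure (Set.range (χ0.comp eh)) = ⊤) (hgf : Subfield.closure (Set.range (χ0.comp fh)) = ⊤)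
    (hx : ∀ c, χ0 (eh (1 ⊗ₜ c)) = 0 ↔ (X.presheaf.germ UX x hxU).hom c ∈ maximalIdeal (X.presheaf.stalk x))
    (hy : ∀ c, χ0 (fh (1 ⊗ₜ c)) = 0 ↔ (Y.presheaf.germ UY y hyU).hom c ∈ maximalIdeal (Y.presheaf.stalk y)) :
    ∃ (V : Scheme.{u}) (v : V) (e : V ⟶ S) (τ : V ⟶ T) (W : Scheme.{u}) (w : W) (a : W ⟶ X)
      (b : W ⟶ pullback q τ),
      Etale e ∧ e v = p x ∧ Function.Bijective (e.residueFieldMap v) ∧ τ v = q y ∧
      Etale a ∧ a w = x ∧ Function.Bijective (a.residueFieldMap w) ∧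
      a ≫ p = b ≫ pullback.snd q τ ≫ e ∧
      Etale b ∧ (pullback.fst q τ) (b w) = y ∧ (pullback.snd q τ) (b w) = v ∧
      Function.Bijective (b.residueFieldMap w) := by
  obtain ⟨B, _, _, _, hBft, φ, hφT, DB, _, eB, fB, π, heB, hfB, hcomB, hπe, hπf⟩ :=
    exists_descend (AS := Γ(S, US)) (AT := Γ(T, UT)) eh fh he hf hcomm
  haveI : IsScalarTower Γ(S, US) L (Cpl L) := inferInstance
  have hfrac : ∀ z : L, ∃ s r : Γ(S, US), IsUnit (algebraMap Γ(S, US) L s) ∧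
      algebraMap Γ(S, US) L s * z = algebraMap Γ(S, US) L r := fun z => by
    obtain ⟨⟨r, s⟩, h⟩ := IsLocalization.surj MA z
    exact ⟨s, r, IsLocalization.map_units L s, by rw [mul_comm]; exact h⟩
  obtain ⟨R', _, _, het, ψ, p', hp', hp'eq, hp'c, -, g, hg, hcong⟩ :=
    ArtinApproxH7.exists_chart hreg hfrac (RingHom.id Γ(S, US)) (algebraMap Γ(S, US) B)
      (RingHom.finiteType_algebraMap.2 hBft) φ.toRingHom
      (φ.comp_algebraMap.trans (RingHom.comp_id _).symm) 1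
  haveI := het
  letI : Algebra B R' := g.toAlgebra
  haveI : IsScalarTower Γ(S, US) B R' := IsScalarTower.of_algebraMap_eq fun a => (RingHom.congr_fun hg a).symm
  letI : Algebra Γ(T, UT) R' := (g.comp (algebraMap Γ(T, UT) B)).toAlgebra
  haveI : IsScalarTower Γ(T, UT) B R' := IsScalarTower.of_algebraMap_eq fun _ => rfl
  letI : Algebra (B ⊗[Γ(S, US)] Γ(X, UX)) DB := eB.toAlgebra
  letI : Algebra (B ⊗[Γ(T, UT)] Γ(Y, UY)) DB := fB.toAlgebra
  letI : Algebra B DB := (eB.comp Algebra.TensorProduct.includeLeftRingHom).toAlgebra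
  haveI : IsScalarTower B (B ⊗[Γ(S, US)] Γ(X, UX)) DB :=
    IsScalarTower.of_algebraMap_eq (R := B) (S := B ⊗[Γ(S, US)] Γ(X, UX)) (A := DB) fun _ => rfl
  haveI : IsScalarTower B (B ⊗[Γ(T, UT)] Γ(Y, UY)) DB :=
    IsScalarTower.of_algebraMap_eq (R := B) (S := B ⊗[Γ(T, UT)] Γ(Y, UY)) (A := DB) fun b => hcomB b
  haveI : Algebra.Etale (B ⊗[Γ(S, US)] Γ(X, UX)) DB := RingHom.etale_algebraMap.1 heB
  haveI : Algebra.Etale (B ⊗[Γ(T, UT)] Γ(Y, UY)) DB := RingHom.etale_algebraMap.1 hfB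
  -- the residue map at the new point
  let χ1 : DB →+* κ := χ0.comp π
  let ρ : Cpl L →+* κ := (χ0.comp eh).comp Algebra.TensorProduct.includeLeftRingHom
  have hρ : ∀ k ∈ maximalIdeal (Cpl L), ρ k = 0 := hm0
  let χ2 : R' →+* κ := ρ.comp ψ.toRingHom
  have hρB : ∀ b : B, ρ (φ b) = ρ (ψ (g b)) := fun b => by
    have h := hcong b
    rw [pow_one, ← CplLocH7.maximalIdeal_cpl] at h
    exact sub_eq_zero.1 (by rw [← map_sub]; exact hρ _ h)
  have hχ1 : ∀ (b : B), χ1 (algebraMap B DB b) = ρ (φ b) := fun b => by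
    show χ0 (π (eB (b ⊗ₜ 1))) = χ0 (eh (φ b ⊗ₜ 1))
    rw [hπe]
  obtain ⟨χ, hχ⟩ := exists_tensor_hom (A := B) (B := R') (C := DB) χ2 χ1
    fun b => (hρB b).symm.trans (hχ1 b).symm
  have hker2 : ∀ r, χ2 r = 0 ↔ r ∈ p' := fun r => by
    rw [hp'eq]
    refine ⟨fun h => ?_, fun h => hρ _ h⟩
    intro hu
    exact not_isUnit_zero (h ▸ hu.map ρ : IsUnit (0 : κ))
  have hρA : ∀ a, ρ (algebraMap Γ(S, US) (Cpl L) a) = χ2 (algebraMap Γ(S, US) R' a) := fun a =>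
    congrArg ρ (ψ.commutes a).symm
  have hρcl : ∀ k (s : Set κ), (∀ a, ρ (algebraMap Γ(S, US) (Cpl L) a) ∈ Subfield.closure s) →
      ρ k ∈ Subfield.closure s := fun k s h =>
    Subfield.closure_le.2 (by rintro _ ⟨a, rfl⟩; exact h a) (mem_closure_of_kills_maximal MA ρ hρ k)
  -- the legs
  let gC : Γ(X, UX) →+* R' ⊗[B] DB := (leg Γ(S, US) B R' Γ(X, UX) DB).toRingHom.comp
    (Algebra.TensorProduct.includeRight : Γ(X, UX) →ₐ[Γ(S, US)] R' ⊗[Γ(S, US)] Γ(X, UX)).toRingHom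
  let gY : R' ⊗[Γ(T, UT)] Γ(Y, UY) →+* R' ⊗[B] DB := (leg Γ(T, UT) B R' Γ(Y, UY) DB).toRingHom
  have hgC : ∀ c, χ (gC c) = χ0 (eh (1 ⊗ₜ c)) := fun c => by
    show χ (leg Γ(S, US) B R' Γ(X, UX) DB (1 ⊗ₜ c)) = _
    rw [leg_tmul, hχ, map_one, one_mul]
    show χ0 (π (eB (1 ⊗ₜ c))) = _
    rw [hπe, map_one]
  have hgY : ∀ r c, χ (gY (r ⊗ₜ c)) = χ2 r * χ0 (fh (1 ⊗ₜ c)) := fun r c => by
    show χ (leg Γ(T, UT) B R' Γ(Y, UY) DB (r ⊗ₜ c)) = _
    rw [leg_tmul, hχ]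
    show χ2 r * χ0 (π (fB (1 ⊗ₜ c))) = _
    rw [hπf, map_one]
  let W := Spec (CommRingCat.of (R' ⊗[B] DB))
  let w : W := ⟨RingHom.ker χ, RingHom.ker_isPrime χ⟩
  let a : W ⟶ X := Spec.map (CommRingCat.ofHom gC) ≫ hUX.fromSpec
  let e : Spec (CommRingCat.of R') ⟶ S := Spec.map (CommRingCat.ofHom (algebraMap Γ(S, US) R')) ≫ hUS.fromSpec
  let τ : Spec (CommRingCat.of R') ⟶ T := Spec.map (CommRingCat.ofHom (algebraMap Γ(T, UT) R')) ≫ hUT.fromSpec
  obtain ⟨j, hj, hjfst, hjsnd, -⟩ := exists_pullback_chart q hUT hUY eY R' hq τ rfl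
  let b : W ⟶ pullback q τ := Spec.map (CommRingCat.ofHom gY) ≫ j
  let v : Spec (CommRingCat.of R') := ⟨p', hp'⟩
  haveI : Etale (Spec.map (CommRingCat.ofHom (algebraMap Γ(S, US) R'))) :=
    HasRingHomProperty.Spec_iff.2 (RingHom.etale_algebraMap.2 het)
  have hgCet : gC.Etale := by
    have h1 : (algebraMap Γ(X, UX) (Γ(X, UX) ⊗[Γ(S, US)] R')).Etale := RingHom.etale_algebraMap.2 inferInstance
    have h2 := RingHom.Etale.stableUnderComposition _ _ (RingHom.Etale.stableUnderComposition _ _ h1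
      (RingHom.Etale.of_bijective (R := Γ(X, UX) ⊗[Γ(S, US)] R') (S := R' ⊗[Γ(S, US)] Γ(X, UX))
        (f := (Algebra.TensorProduct.comm Γ(S, US) Γ(X, UX) R').toRingEquiv.toRingHom)
        (Algebra.TensorProduct.comm Γ(S, US) Γ(X, UX) R').bijective))
      (etale_leg Γ(S, US) B R' Γ(X, UX) DB)
    convert h2 using 1
    exact RingHom.ext fun c => rfl
  haveI : Etale (Spec.map (CommRingCat.ofHom gC)) := HasRingHomProperty.Spec_iff.2 hgCet
  haveI : Etale (Spec.map (CommRingCat.ofHom gY)) :=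
    HasRingHomProperty.Spec_iff.2 (etale_leg Γ(T, UT) B R' Γ(Y, UY) DB)
  refine ⟨Spec (CommRingCat.of R'), v, e, τ, W, w, a, b, inferInstanceAs (Etale (_ ≫ _)), ?_, ?_, ?_,
    inferInstanceAs (Etale (_ ≫ _)), ?_, ?_, ?_, inferInstanceAs (Etale (_ ≫ _)), ?_, ?_, ?_⟩
  · exact ArtinApproxH7.range_SpecMap_fromSpec hUS _ v hsU (hp'c.trans hs)
  · refine bijective_residueFieldMap_comp_iso _ _ _
      (bijective_residueFieldMap_SpecMap _ ((residue (Cpl L)).comp ψ.toRingHom) v ?_ ?_)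
    · refine Ideal.ext fun r => ?_
      rw [RingHom.mem_ker, RingHom.comp_apply, residue_eq_zero_iff]
      exact iff_of_eq (congrArg (r ∈ ·) hp'eq)
    · refine top_le_iff.1 fun z _ => ?_
      obtain ⟨k, rfl⟩ := residue_surjective (R := Cpl L) z
      refine Subfield.closure_le.2 ?_
        (mem_closure_of_kills_maximal MA (residue (Cpl L)) (fun k hk => (residue_eq_zero_iff k).2 hk) k)
      rintro _ ⟨a, rfl⟩
      exact Subfield.subset_closure ⟨a, congrArg (residue (Cpl L)) (ψ.commutes a)⟩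
  · refine ArtinApproxH7.range_SpecMap_fromSpec hUT _ v htU (Ideal.ext fun a => ?_)
    rw [Ideal.mem_comap, Ideal.mem_comap, ← ht a, ← hφT a]
    show g (algebraMap Γ(T, UT) B a) ∈ p' ↔ _
    rw [hp'eq, Ideal.mem_comap]
    have h := hcong (algebraMap Γ(T, UT) B a)
    rw [pow_one, ← CplLocH7.maximalIdeal_cpl] at h
    constructor
    · intro h'
      have := add_mem h h'
      rwa [AlgHom.toRingHom_eq_coe, RingHom.coe_coe, AlgHom.toRingHom_eq_coe, RingHom.coe_coe, sub_add_cancel] at this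
    · intro h'
      have := sub_mem h' h
      rwa [AlgHom.toRingHom_eq_coe, RingHom.coe_coe, sub_sub_cancel] at this
  · refine ArtinApproxH7.range_SpecMap_fromSpec hUX _ w hxU (Ideal.ext fun c => ?_)
    rw [Ideal.mem_comap, Ideal.mem_comap]
    show gC c ∈ RingHom.ker χ ↔ _
    rw [RingHom.mem_ker, hgC, hx]
  · refine bijective_residueFieldMap_comp_iso _ _ _ (bijective_residueFieldMap_SpecMap _ χ w rfl ?_)
    refine closure_range_tensor (χ0.comp eh) _ hge (fun k => hρcl k _ fun a => ?_) fun c =>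
      Subfield.subset_closure ⟨c, hgC c⟩
    refine Subfield.subset_closure ⟨algebraMap Γ(S, US) Γ(X, UX) a, ?_⟩
    show χ (gC _) = χ0 (eh (algebraMap Γ(S, US) (Cpl L) a ⊗ₜ 1))
    rw [hgC, Algebra.algebraMap_eq_smul_one, Algebra.algebraMap_eq_smul_one, TensorProduct.smul_tmul]
  · show (Spec.map (CommRingCat.ofHom gC) ≫ hUX.fromSpec) ≫ p =
      (Spec.map (CommRingCat.ofHom gY) ≫ j) ≫ pullback.snd q τ ≫
        Spec.map (CommRingCat.ofHom (algebraMap Γ(S, US) R')) ≫ hUS.fromSpec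
    rw [Category.assoc, Category.assoc, reassoc_of% hjsnd, ← hUS.SpecMap_appLE_fromSpec p hUX eX,
      ← Spec.map_comp_assoc, ← Spec.map_comp_assoc, ← Spec.map_comp_assoc]
    congr 2
    refine CommRingCat.hom_ext (RingHom.ext fun r => ?_)
    show gC ((p.appLE US UX eX).hom r) = gY (algebraMap Γ(S, US) R' r ⊗ₜ 1)
    rw [← hp]
    show leg Γ(S, US) B R' Γ(X, UX) DB (1 ⊗ₜ algebraMap Γ(S, US) Γ(X, UX) r) = leg Γ(T, UT) B R' Γ(Y, UY) DB (_ ⊗ₜ 1)
    rw [leg_tmul Γ(T, UT), Algebra.algebraMap_eq_smul_one (A := Γ(X, UX)), TensorProduct.tmul_smul,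
      TensorProduct.smul_tmul', ← Algebra.algebraMap_eq_smul_one, leg_tmul, ← Algebra.TensorProduct.one_def,
      ← Algebra.TensorProduct.one_def, map_one, map_one]
  · rw [← Scheme.Hom.comp_apply, show b ≫ pullback.fst q τ = _ from (Category.assoc _ _ _).trans
      (congrArg (Spec.map (CommRingCat.ofHom gY) ≫ ·) hjfst), ← Spec.map_comp_assoc]
    refine ArtinApproxH7.range_SpecMap_fromSpec hUY _ w hyU (Ideal.ext fun c => ?_)
    rw [Ideal.mem_comap, Ideal.mem_comap]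
    show gY (1 ⊗ₜ c) ∈ RingHom.ker χ ↔ _
    rw [RingHom.mem_ker, hgY, map_one, one_mul, hy]
  · rw [← Scheme.Hom.comp_apply, show b ≫ pullback.snd q τ = _ from (Category.assoc _ _ _).trans
      (congrArg (Spec.map (CommRingCat.ofHom gY) ≫ ·) hjsnd), ← Spec.map_comp]
    refine PrimeSpectrum.ext (Ideal.ext fun r => ?_)
    show gY (r ⊗ₜ 1) ∈ RingHom.ker χ ↔ r ∈ p'
    rw [RingHom.mem_ker, hgY, ← Algebra.TensorProduct.one_def, map_one, map_one, mul_one, hker2]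
  · refine bijective_residueFieldMap_comp_iso _ _ _ (bijective_residueFieldMap_SpecMap _ χ w rfl ?_)
    refine closure_range_tensor (χ0.comp fh) _ hgf (fun k => ?_) fun c =>
      Subfield.subset_closure ⟨1 ⊗ₜ c, (hgY 1 c).trans (by rw [map_one, one_mul]; rfl)⟩
    show χ0 (fh (k ⊗ₜ 1)) ∈ _
    rw [← hcomm]
    refine hρcl k _ fun a => Subfield.subset_closure ⟨algebraMap Γ(S, US) R' a ⊗ₜ 1, ?_⟩
    show χ (gY _) = _
    rw [hgY, ← Algebra.TensorProduct.one_def, map_one, map_one, mul_one, hρA]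

end Groth.Agent.NbhdH7
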